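import Groth.Agent.Coherent.Serre.AmpleCover
import Groth.Agent.Coherent.Vanishing
import Groth.Agent.EulerLib.InvClass
import Groth.Agent.MorProj.Basic
import Groth.Agent.MorProj.InvTensor

/-!
# Affineness from vanishing of the negative powers of an ample module
-/

set_option autoImplicit false
set_option backward.isDefEq.respectTransparency false
set_option maxHeartbeats 1000000

universe u

open CategoryTheory CategoryTheory.Limits AlgebraicGeometry Opposite TopologicalSpace
open Groth.Agent.Coherent Groth.Agent.PicLib Groth.Agent.AmpleLib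

namespace Groth.Agent.Coherent.Serre

variable {X : Scheme.{u}}

theorem kerSeqEpi_shortExact {M N : X.Modules} (t : M ⟶ N) [Epi t] :
    (ShortComplex.mk (kernel.ι t) t (kernel.condition t)).ShortExact :=
  { mono_f := inferInstanceAs (Mono (kernel.ι t))
    epi_g := inferInstanceAs (Epi t)
    exact := ShortComplex.exact_of_f_is_kernel _ (kernelIsKernel t) }

/-- Quasi-coherent with finite projective sections on affine opens. -/
structure ProjSec (E : X.Modules) : Prop where
  qcoh : Coh.IsQCoh E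
  finite : ∀ U : X.Opens, IsAffineOpen U → Module.Finite Γ(X, U) Γ(E, U)
  proj : ∀ U : X.Opens, IsAffineOpen U → Module.Projective Γ(X, U) Γ(E, U)

theorem ProjSec.isCoh {E : X.Modules} (h : ProjSec E) : Coh.IsCoh E :=
  (isCoh_iff_finite_sections E).2 ⟨h.qcoh, h.finite⟩

theorem projSec_structureModule : ProjSec (Coh.structureModule X) :=
  ⟨isQCoh_structureModule, fun U _ => Module.Finite.self Γ(X, U),
    fun U _ => inferInstanceAs (Module.Projective Γ(X, U) Γ(X, U))⟩

theorem projSec_freeMod (I : Type u) [Fintype I] : ProjSec (freeMod X I) := by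
  classical
  exact ⟨isQCoh_freeMod, fun U _ => freeMod_sections_finite U,
    fun U _ => Module.Projective.of_equiv (freeSectionsEquiv (X := X) (I := I) U).symm⟩

theorem ProjSec.twist {E P : X.Modules} (h : ProjSec E) (hP : PicF.IsInvertible P) :
    ProjSec (CohB1.tensorMod E P) := by
  have := h.qcoh
  have hq : Coh.IsQCoh (CohB1.tensorMod E P) := isQCoh_tensor_invertible E hP
  have hcov : ∀ x : X, ∃ W : X.Opens, x ∈ W ∧ IsAffineOpen W ∧
      Module.Finite Γ(X, W) Γ(CohB1.tensorMod E P, W) ∧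
      Module.Projective Γ(X, W) Γ(CohB1.tensorMod E P, W) := by
    intro x
    obtain ⟨U, hxU, g, hg⟩ := exists_isGen hP x
    obtain ⟨W, hW, hxW, hWU⟩ := exists_isAffineOpen_mem_and_subset (x := x) (U := U) hxU
    let φ : Γ(E, W) →ₗ[Γ(X, W)] Γ(CohB1.tensorMod E P, W) :=
      { toFun := fun m => tmul m (resM P (fun z hz => hWU hz : W ≤ U) g)
        map_add' := fun m m' => tmul_add_left m m' _
        map_smul' := fun r m => tmul_smul_left r m _ }
    let e := LinearEquiv.ofBijective φ (bijective_tmul_gen (M := E) hg W fun z hz => hWU hz)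
    have := h.finite W hW
    have := h.proj W hW
    exact ⟨W, hxW, hW, Module.Finite.equiv e, Module.Projective.of_equiv e⟩
  refine ⟨hq, ((isCoh_iff_finite_sections _).1 ?_).2, fun U hU =>
    MorProj.projective_of_cover _ (fun x => (hcov x).imp fun W h => ⟨h.1, h.2.1, h.2.2.2⟩) hU⟩
  choose W hxW hW hfin hproj using hcov
  exact isCoh_of_finite_sections_cover _ hq W hW (fun x => ⟨x, hxW x⟩) hfin

theorem ProjSec.of_iso {E F : X.Modules} (e : E ≅ F) (h : ProjSec E) : ProjSec F := by
  refine ⟨?_, fun U hU => ?_, fun U hU => ?_⟩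
  · have := h.qcoh; exact isQCoh_of_iso e
  all_goals
    let l : Γ(E, U) ≃ₗ[Γ(X, U)] Γ(F, U) :=
      ((SheafOfModules.evaluation X.ringCatSheaf (op U)).mapIso e).toLinearEquiv
  · have := h.finite U hU
    exact Module.Finite.equiv l
  · have := h.proj U hU
    exact Module.Projective.of_equiv l

theorem ProjSec.kernel {E F : X.Modules} (hE : ProjSec E) (hF : ProjSec F) (π : E ⟶ F) [Epi π] :
    ProjSec (kernel π) := by
  have := hE.qcoh; have := hF.qcoh
  have hK : Coh.IsQCoh (Limits.kernel π) := isQCoh_kernel π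
  have hS := kerSeqEpi_shortExact π
  have key : ∀ U : X.Opens, IsAffineOpen U →
      Module.Finite Γ(X, U) Γ(Limits.kernel π, U) ∧ Module.Projective Γ(X, U) Γ(Limits.kernel π, U) := by
    intro U hU
    let a := appLin (kernel.ι π) U
    let b := appLin π U
    have ha : Function.Injective a := sections_injective hS U
    have hb : Function.Surjective b := sections_surjective (S := ShortComplex.mk _ _ (kernel.condition π)) hS hU
    have hab : Function.Exact a b := fun x => ⟨fun hx => sections_exact hS x hx, by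
      rintro ⟨y, rfl⟩
      exact sections_zero (S := ShortComplex.mk _ _ (kernel.condition π)) U y⟩
    have := hE.finite U hU; have := hE.proj U hU; have := hF.proj U hU
    obtain ⟨s, hs⟩ := Module.projective_lifting_property b LinearMap.id hb
    have hmem : ∀ x, x - s (b x) ∈ LinearMap.range a := fun x => (hab _).1 (by
      rw [map_sub]
      exact sub_eq_zero.2 (LinearMap.congr_fun hs (b x)).symm)
    let e := LinearEquiv.ofInjective a ha
    let r : Γ(E, U) →ₗ[Γ(X, U)] Γ(Limits.kernel π, U) :=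
      e.symm.toLinearMap.comp (LinearMap.codRestrict _ (LinearMap.id - s.comp b) hmem)
    have hr : r.comp a = LinearMap.id := LinearMap.ext fun k => ha (by
      have h0 : b (a k) = 0 := (hab _).2 ⟨k, rfl⟩
      show a (e.symm ⟨a k - s (b (a k)), _⟩) = a k
      rw [show a (e.symm ⟨a k - s (b (a k)), hmem _⟩) = a k - s (b (a k)) from
        congrArg Subtype.val (e.apply_symm_apply ⟨_, hmem (a k)⟩), h0, map_zero, sub_zero])
    exact ⟨Module.Finite.of_surjective r fun k => ⟨a k, LinearMap.congr_fun hr k⟩,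
      Module.Projective.of_split a r hr⟩
  exact ⟨hK, fun U hU => (key U hU).1, fun U hU => (key U hU).2⟩

/-- High twists of a coherent module are quotients of finite free modules. -/
theorem exists_epi_free_twist {L : X.Modules} (hL : CohB1.IsAmple L) (F : X.Modules)
    (hF : Coh.IsCoh F) : ∃ N : ℕ, ∀ n, N ≤ n → ∃ (I : Type u) (_ : Fintype I)
      (π : freeMod X I ⟶ CohB1.tensorMod F (CohB1.tensorPow L n)), Epi π := by
  classical
  obtain ⟨hq, hfin⟩ := (isCoh_iff_finite_sections F).1 hF
  have := hq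
  obtain ⟨hLi, hc, -⟩ := isAmple_iff_affGlocus.1 hL
  have key : ∀ x : X, ∃ (A : X.Opens) (N r : ℕ), x ∈ A ∧ IsAffineOpen A ∧ ∀ n, N ≤ n →
      ∃ u : Fin r → Γ(CohB1.tensorMod F (CohB1.tensorPow L n), ⊤),
        Submodule.span Γ(X, A) (Set.range fun i => resM _ (le_top : A ≤ ⊤) (u i)) = ⊤ := fun x => by
    obtain ⟨V, hxV, g, hg⟩ := exists_isGen hLi x
    obtain ⟨m, hm, b, hxb, hbV, hb⟩ := affGlocus_of_mem (x := x) (U := V) hL hxV
    let A := glocus _ b
    obtain ⟨r, f, hf⟩ := (hfin A hb).exists_fin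
    have := fun i : Fin r => exists_twist_section hL F hm b (hg.restrict hbV) (f i)
    choose N hN using this
    refine ⟨A, Finset.univ.sup N, r, hxb, hb, fun n hn => ?_⟩
    have hN' := fun i => hN i n ((Finset.le_sup (Finset.mem_univ i)).trans hn)
    choose u h hh hu using hN'
    refine ⟨u, top_le_iff.1 fun a _ => ?_⟩
    have hh₀ := isGen_powSec (hg.restrict hbV) n
    obtain ⟨x₀, hx₀⟩ := (bijective_tmul_gen (M := F) hh₀ A le_rfl).2 a
    rw [resM_self] at hx₀
    rw [← hx₀]
    obtain ⟨c, hc⟩ := (Submodule.mem_span_range_iff_exists_fun _).1 (hf.ge (Submodule.mem_top (x := x₀)))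
    rw [← hc]
    let Φ : Γ(F, A) →+ Γ(CohB1.tensorMod F (CohB1.tensorPow L n), A) :=
      AddMonoidHom.mk' (fun z => tmul z (powSec (resM L hbV g) n)) fun z z' => tmul_add_left z z' _
    show Φ _ ∈ _
    rw [map_sum]
    refine Submodule.sum_mem _ fun i _ => ?_
    show tmul (c i • f i) (powSec (resM L hbV g) n) ∈ _
    obtain ⟨d, hd⟩ : ∃ d : Γ(X, A), d • resM _ le_rfl (h i) = powSec (resM L hbV g) n :=
      ((hh i) A le_rfl).2 _
    rw [resM_self] at hd
    rw [tmul_smul_left, ← hd, tmul_smul_right]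
    exact Submodule.smul_mem _ _ (Submodule.smul_mem _ _ (Submodule.subset_span ⟨i, hu i⟩))
  choose A N r hxA hA hgen using key
  obtain ⟨t, ht⟩ := isCompact_univ.elim_finite_subcover (fun x : X => (A x : Set X)) (fun x => (A x).2)
    fun x _ => Set.mem_iUnion.2 ⟨x, hxA x⟩
  refine ⟨t.sup N, fun n hn => ?_⟩
  have : Coh.IsQCoh (CohB1.tensorMod F (CohB1.tensorPow L n)) :=
    isQCoh_tensor_invertible F (isInvertible_tensorPow hLi n)
  choose u hu using fun x : t => hgen x.1 n ((Finset.le_sup x.2).trans hn)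
  refine ⟨ULift.{u} (Σ x : t, Fin (r x.1)), inferInstance,
    freeDesc fun p => unitDesc _ (u p.down.1 p.down.2), epi_of_locally_surjective _ fun W a y hy => ?_⟩
  obtain ⟨x, hxt, hyx⟩ := Set.mem_iUnion₂.1 (ht (Set.mem_univ y))
  have hG : GenOn _ (A x) fun i : ULift.{u} (Fin (r x)) => resM _ (le_top : A x ≤ ⊤) (u ⟨x, hxt⟩ i.down) :=
    genOn_of_span_top _ (hA x) _ (by
      rw [← hu ⟨x, hxt⟩]
      exact congrArg _ (Equiv.ulift.surjective.range_comp
        fun j => resM _ (le_top : A x ≤ ⊤) (u ⟨x, hxt⟩ j)))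
  obtain ⟨W', hle, hyW', c, hc⟩ := hG (W ⊓ A x) inf_le_right (resM _ inf_le_left a) y ⟨hy, hyx⟩
  rw [resM_resM] at hc
  refine ⟨W', hle.trans inf_le_left, hyW', ∑ i, c i • freeBasisVec (⟨⟨⟨x, hxt⟩, i.down⟩⟩) W', ?_⟩
  rw [map_sum, hc]
  refine Finset.sum_congr rfl fun i _ => ?_
  rw [Scheme.Modules.Hom.app_smul, resM_resM]
  refine congrArg (c i • ·) ?_
  show (freeInj _ ≫ freeDesc _).app W' (1 : Γ(X, W')) = _
  rw [freeInj_freeDesc]
  exact unitVal_unitDesc _ _ _

theorem sum_tensorMap_free {I : Type u} [Fintype I] [DecidableEq I] (P : X.Modules) :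
    ∑ i : I, tensorMap (freeProj (X := X) i ≫ freeInj i) (𝟙 P) = 𝟙 (CohB1.tensorMod (freeMod X I) P) := by
  refine AmpleLib.hom_ext fun U a b => ?_
  rw [app_sum]
  simp only [tensorMap_tmul]
  let Φ : Γ(freeMod X I, U) →+ Γ(CohB1.tensorMod (freeMod X I) P, U) :=
    AddMonoidHom.mk' (fun z => tmul z b) fun z z' => tmul_add_left z z' b
  refine Eq.trans (map_sum Φ (fun i => (freeProj i ≫ freeInj i).app U a) Finset.univ).symm ?_
  refine congrArg (fun z => tmul z b) ((Finset.sum_congr rfl fun i _ => ?_).trans (freeMod_decomp a).symm)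
  exact app_unit (freeInj i) (freeCoord U i a)

theorem free_twist_app {I : Type u} [Fintype I] [DecidableEq I] {Q P : X.Modules}
    (φ : I → (Coh.structureModule X ⟶ Q)) (U : X.Opens) (z : Γ(CohB1.tensorMod (freeMod X I) P, U)) :
    (tensorMap (freeDesc φ) (𝟙 P)).app U z = ∑ i, tmul (unitVal (φ i) U)
      ((unitTensorIso P).hom.app U ((tensorMap (freeProj (X := X) i) (𝟙 P)).app U z)) := by
  have hz := congrArg (fun ψ => (tensorMap (freeDesc φ) (𝟙 P)).app U (ψ.app U z))
    (sum_tensorMap_free (X := X) (I := I) P)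
  refine hz.symm.trans ?_
  rw [app_sum, map_sum]
  refine Finset.sum_congr rfl fun i _ => ?_
  have e1 : tensorMap (freeProj (X := X) i ≫ freeInj i) (𝟙 P) ≫ tensorMap (freeDesc φ) (𝟙 P) =
      tensorMap (freeProj i) (𝟙 P) ≫ tensorMap (φ i) (𝟙 P) :=
    AmpleLib.hom_ext fun V a c => by
      simp only [Scheme.Modules.Hom.comp_app, ConcreteCategory.comp_apply, tensorMap_tmul]
      have key : ∀ b, (freeDesc φ).app V ((freeInj (X := X) i).app V b) = (φ i).app V b := fun b => by
        rw [← freeInj_freeDesc φ i, Scheme.Modules.Hom.comp_app, ConcreteCategory.comp_apply]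
      exact congrArg (tmul · _) (key _)
  have h1 := congrArg (fun ψ : CohB1.tensorMod (freeMod X I) P ⟶ CohB1.tensorMod Q P => ψ.app U z) e1
  simp only [Scheme.Modules.Hom.comp_app, ConcreteCategory.comp_apply] at h1
  refine h1.trans ?_
  generalize (tensorMap (freeProj (X := X) i) (𝟙 P)).app U z = w
  have e2 : w = tmul (AmpleLib.oneSec U) ((unitTensorIso P).hom.app U w) :=
    (congrArg (fun ψ : CohB1.tensorMod (Coh.structureModule X) P ⟶ _ => ψ.app U w)
      (unitTensorIso P).hom_inv_id).symm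
  conv_lhs => rw [e2]
  rw [tensorMap_tmul]
  rfl

theorem subsingleton_H'_free_twist {I : Type u} [Fintype I] (P : X.Modules) (p : ℕ) (U : X.Opens)
    (h : Subsingleton (Sheaf.H' (Coh.toAb P) p U)) :
    Subsingleton (Sheaf.H' (Coh.toAb (CohB1.tensorMod (freeMod X I) P)) p U) := by
  classical
  refine subsingleton_of_forall_eq 0 fun x => ?_
  have h' := subsingleton_H'_of_iso (unitTensorIso P).symm p U h
  have hterm : ∀ i : I, postHM (tensorMap (freeProj (X := X) i ≫ freeInj i) (𝟙 P)) p U x = 0 := fun i => by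
    have e : tensorMap (freeProj (X := X) i ≫ freeInj i) (𝟙 P) =
        tensorMap (freeProj i) (𝟙 P) ≫ tensorMap (freeInj i) (𝟙 P) :=
      AmpleLib.hom_ext fun V a b => by
        simp only [Scheme.Modules.Hom.comp_app, ConcreteCategory.comp_apply, tensorMap_tmul]
        rfl
    rw [e]
    exact (postHM_comp _ _ p U x).trans ((congrArg (postHM _ p U) (h'.elim _ 0)).trans (map_zero _))
  have hsum : ∀ s : Finset I,
      postHM (∑ i ∈ s, tensorMap (freeProj (X := X) i ≫ freeInj i) (𝟙 P)) p U x = 0 := fun s => by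
    induction s using Finset.induction with
    | empty => rw [Finset.sum_empty]; exact postHM_zero p U x
    | insert a s ha ih => rw [Finset.sum_insert ha, postHM_add, hterm, ih, add_zero]
  have := hsum Finset.univ
  rw [sum_tensorMap_free, postHM_id] at this
  exact this

theorem nonempty_pow_tensor_inv {L L' : X.Modules} (e : CohB1.tensorMod L L' ≅ Coh.structureModule X)
    (n : ℕ) : Nonempty (CohB1.tensorMod (CohB1.tensorPow L n) (CohB1.tensorPow L' n) ≅
      Coh.structureModule X) := by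
  have hL : PicF.IsInvertible L := MorProj.isInvertible_of_tensor_iso e
  have hL' : PicF.IsInvertible L' := MorProj.isInvertible_of_tensor_iso (tensorComm _ _ ≪≫ e)
  refine Quotient.exact (s := EulerLib.invSetoid X) (?_ : EulerLib.InvCl.mk _
    (isInvertible_tensorMod (isInvertible_tensorPow hL n) (isInvertible_tensorPow hL' n)) = 1)
  refine (EulerLib.InvCl.mk_mul (isInvertible_tensorPow hL n) (isInvertible_tensorPow hL' n)).symm.trans ?_
  rw [EulerLib.InvCl.mk_tensorPow hL, EulerLib.InvCl.mk_tensorPow hL', ← mul_pow,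
    EulerLib.InvCl.mk_mul hL hL']
  exact (congrArg (· ^ n) (EulerLib.InvCl.mk_eq _ isInvertible_structureModule e)).trans (one_pow n)

variable {L L' : X.Modules} (hL : CohB1.IsAmple L)
  (e : CohB1.tensorMod L L' ≅ Coh.structureModule X) (n₀ : ℕ)
  (h : ∀ n : ℕ, n₀ ≤ n → ∀ p : ℕ, 0 < p →
    Subsingleton (Sheaf.H' (Coh.toAb (CohB1.tensorPow L' n)) p (⊤ : X.Opens)))

include hL e h

theorem subsingleton_H'_projSec (E : X.Modules) (hE : ProjSec E) (p : ℕ) (hp : 0 < p) :
    Subsingleton (Sheaf.H' (Coh.toAb E) p (⊤ : X.Opens)) := by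
  obtain ⟨hLi, hc, hx⟩ := isAmple_iff_affGlocus.1 hL
  have := quasiSeparatedSpace_of_affGlocus hLi hx
  have hL' : PicF.IsInvertible L' := MorProj.isInvertible_of_tensor_iso (tensorComm _ _ ≪≫ e)
  obtain ⟨d, hd⟩ := exists_bound_subsingleton_H'_top (X := X)
  suffices key : ∀ (j : ℕ) (E : X.Modules), ProjSec E → ∀ p, 0 < p → d ≤ p + j →
      Subsingleton (Sheaf.H' (Coh.toAb E) p (⊤ : X.Opens)) from key d E hE p hp (by omega)
  intro j
  induction j with
  | zero => exact fun E hE p _ hdp => hd E hE.qcoh p hdp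
  | succ j ih =>
    intro E hE p hp hdp
    obtain ⟨N, hN⟩ := exists_epi_free_twist hL E hE.isCoh
    let n := max N n₀
    obtain ⟨I, _, π, hπ⟩ := hN n (le_max_left _ _)
    let P := CohB1.tensorPow L' n
    have hP : PicF.IsInvertible P := isInvertible_tensorPow hL' n
    have hM := hE.twist (isInvertible_tensorPow hLi n)
    have hK := (projSec_freeMod (X := X) I).kernel hM π
    obtain ⟨en⟩ := nonempty_pow_tensor_inv e n
    obtain ⟨α⟩ := EulerLib.exists_assocIso' E (isInvertible_tensorPow hLi n) hP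
    let i : CohB1.tensorMod (CohB1.tensorMod E (CohB1.tensorPow L n)) P ≅ E :=
      α ≪≫ tensorIso (Iso.refl E) en ≪≫ tensorComm _ _ ≪≫ unitTensorIso E
    exact subsingleton_H'_of_iso i p ⊤ (subsingleton_H'_X₃
      (EulerLib.twistSeq_shortExact hP (kerSeqEpi_shortExact π)) p ⊤
      (ih _ (hK.twist hP) (p + 1) p.succ_pos (by omega))
      (subsingleton_H'_free_twist P p ⊤ (h n (le_max_right _ _) p hp)))

/-- Negative powers of an ample module are acyclic only on affine schemes. -/
theorem isAffine_of_inverse_acyclic : IsAffine X := by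
  classical
  obtain ⟨hLi, hc, hx⟩ := isAmple_iff_affGlocus.1 hL
  have hL' : PicF.IsInvertible L' := MorProj.isInvertible_of_tensor_iso (tensorComm _ _ ≪≫ e)
  choose m hm b hxb hbT hb using hx
  obtain ⟨t, ht⟩ := isCompact_univ.elim_finite_subcover (fun x : X => (glocus _ (b x) : Set X))
    (fun x => (glocus _ (b x)).2) fun x _ => Set.mem_iUnion.2 ⟨x, hxb x⟩
  let M := ∏ x ∈ t, m x
  have hs : ∀ x : t, ∃ s : Γ(CohB1.tensorPow L M, ⊤), glocus _ s = glocus _ (b x.1) := fun x => by
    obtain ⟨c, hc⟩ := Finset.dvd_prod_of_mem m x.2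
    have hc0 : c ≠ 0 := fun h0 => by
      have : 0 < M := Finset.prod_pos fun y _ => hm y
      rw [show M = m x.1 * c from hc, h0, mul_zero] at this
      exact this.false
    obtain ⟨c, rfl⟩ := Nat.exists_eq_succ_of_ne_zero hc0
    obtain ⟨ep, -⟩ := exists_powPowIso hLi (m x.1) (c + 1)
    rw [show M = m x.1 * (c + 1) from hc]
    exact ⟨ep.hom.app ⊤ (powSec (b x.1) (c + 1)),
      (glocus_map_iso ep _).trans (glocus_powSec (isInvertible_tensorPow hLi _) _ c)⟩
  choose s hs using hs
  let P := CohB1.tensorPow L' M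
  have hP : PicF.IsInvertible P := isInvertible_tensorPow hL' M
  have hMi : PicF.IsInvertible (CohB1.tensorPow L M) := isInvertible_tensorPow hLi M
  let I := ULift.{u} t
  let π : freeMod X I ⟶ CohB1.tensorPow L M := freeDesc fun x => unitDesc _ (s x.down)
  have hπ : Epi π := epi_of_locally_surjective _ fun W a y hy => by
    obtain ⟨x, hxt, hyx⟩ := Set.mem_iUnion₂.1 (ht (Set.mem_univ y))
    let W' := W ⊓ glocus _ (s ⟨x, hxt⟩)
    obtain ⟨r, hr⟩ : ∃ r : Γ(X, W'), r • resM _ (inf_le_right : W' ≤ _)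
        (resM _ le_top (s ⟨x, hxt⟩)) = resM _ (inf_le_left : W' ≤ W) a :=
      (isGen_glocus (s ⟨x, hxt⟩) W' inf_le_right).2 _
    refine ⟨W', inf_le_left, ⟨hy, (hs ⟨x, hxt⟩).ge hyx⟩, r • freeBasisVec (⟨⟨x, hxt⟩⟩ : I) W', ?_⟩
    rw [Scheme.Modules.Hom.app_smul, ← hr, resM_resM]
    refine congrArg (r • ·) ?_
    show (freeInj _ ≫ freeDesc _).app W' (1 : Γ(X, W')) = _
    rw [freeInj_freeDesc]
    exact unitVal_unitDesc _ _ _
  have hK := (projSec_freeMod (X := X) I).kernel
    ((projSec_structureModule.twist hMi).of_iso (unitTensorIso (CohB1.tensorPow L M))) π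
  have hS := EulerLib.twistSeq_shortExact hP (kerSeqEpi_shortExact π)
  have hsurj := sections_top_surjective_of_subsingleton hS
    (subsingleton_H'_projSec hL e n₀ h _ (hK.twist hP) 1 one_pos)
  obtain ⟨en⟩ := nonempty_pow_tensor_inv e M
  obtain ⟨z, hz⟩ := hsurj (en.inv.app ⊤ (AmpleLib.oneSec (⊤ : X.Opens)))
  let q : I → Γ(P, ⊤) := fun x =>
    (unitTensorIso P).hom.app ⊤ ((tensorMap (freeProj (X := X) x) (𝟙 P)).app ⊤ z)
  let f : I → Γ(X, ⊤) := fun x => en.hom.app ⊤ (tmul (s x.down) (q x))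
  have hsum : ∑ x, f x = 1 := by
    have h1 : (tensorMap π (𝟙 P)).app ⊤ z = ∑ x, tmul (s x.down) (q x) := by
      refine (free_twist_app (fun x : I => unitDesc _ (s x.down)) ⊤ z).trans
        (Finset.sum_congr rfl fun x _ => ?_)
      exact congrArg (tmul · (q x)) ((unitVal_unitDesc _ (s x.down) ⊤).trans (resM_self _ _ _))
    have h2 := congrArg (en.hom.app ⊤) (h1.symm.trans hz)
    rw [map_sum] at h2
    exact h2.trans (congrArg (fun ψ => ψ.app ⊤ (AmpleLib.oneSec (⊤ : X.Opens))) en.inv_hom_id)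
  refine isAffine_of_isAffineOpen_basicOpen (Set.range f) ?_ ?_
  · rw [Ideal.eq_top_iff_one, ← hsum]
    exact Submodule.sum_mem _ fun x _ => Ideal.subset_span ⟨x, rfl⟩
  rintro _ ⟨x, rfl⟩
  have hle : X.basicOpen (f x) ≤ glocus _ (b x.down.1) := by
    rw [← glocus_structureModule, show glocus (Coh.structureModule X) (f x) = _ from glocus_map_iso en _,
      glocus_tmul hMi hP]
    exact inf_le_left.trans (hs x.down).le
  rw [← inf_eq_right.2 hle, ← Scheme.basicOpen_res X (f x) (homOfLE (le_top (a := glocus _ (b x.down.1)))).op]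
  exact (hb x.down.1).basicOpen _

end Groth.Agent.Coherent.Serre
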