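import Groth.Agent.Coherent.Serre.RightMul
import Groth.Agent.Coherent.SecBridge
import Groth.Agent.Coherent.FormalFunctions
import Groth.Agent.Coherent.SchemeCoh
import Groth.Agent.Coherent.QcohOps
import Groth.Agent.RelVALib.UPFunctor
import Groth.Agent.EGA43.InjFibre.StalkBridge

/-!
# Higher cohomology classes are killed by powers of a section with affine locus
-/

set_option autoImplicit false
set_option backward.isDefEq.respectTransparency false

universe u

open CategoryTheory CategoryTheory.Limits AlgebraicGeometry Opposite TopologicalSpace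
open Groth.Agent.Coherent Groth.Agent.PicLib Groth.Agent.AmpleLib

namespace Groth.Agent.Coherent.Serre

variable {X : Scheme.{u}}

theorem pullSec_eq_zero_imp {U : Scheme.{u}} (j : U ⟶ X) [IsOpenImmersion j] (F : X.Modules) {V : X.Opens}
    (z : Γ(F, V)) (h : pullSec j z = 0) : resM F (j.image_preimage_le V) z = 0 := by
  let e := (Scheme.Modules.restrictFunctorIsoPullback j).app F
  have hunit : e.hom.app (j ⁻¹ᵁ V) (resM F (j.image_preimage_le V) z) = pullSec j z :=
    ConcreteCategory.congr_hom (congrArg (fun ψ => Scheme.Modules.Hom.app ψ V)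
      (Adjunction.unit_leftAdjointUniq_hom_app (Scheme.Modules.restrictAdjunction j)
        (Scheme.Modules.pullbackPushforwardAdjunction j) F)) z
  rw [h] at hunit
  exact (ConcreteCategory.bijective_of_isIso (e.hom.app (j ⁻¹ᵁ V))).1 (hunit.trans (map_zero _).symm)

variable [CompactSpace X] [X.IsSeparated]

/-- A quasi-coherent module embeds in one without higher cohomology. -/
theorem exists_acyclic_mono (F : X.Modules) [Coh.IsQCoh F] :
    ∃ (G : X.Modules) (i : F ⟶ G), Mono i ∧ Coh.IsQCoh G ∧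
      ∀ q : ℕ, 0 < q → Subsingleton (Coh.HH X G q) := by
  let 𝒰 := X.affineCover.finiteSubcover
  have : ∀ a, IsAffine (𝒰.X a) := fun a => inferInstanceAs (IsAffine (X.affineCover.X _))
  let X' : Scheme.{u} := ∐ fun a => 𝒰.X a
  let π : X' ⟶ X := Sigma.desc fun a => 𝒰.f a
  have : IsAffine X' := inferInstanceAs (IsAffine (∐ fun a => 𝒰.X a))
  have : IsAffineHom π := by
    have : IsAffineHom (π ≫ terminal.from X) := inferInstance
    exact IsAffineHom.of_comp π (terminal.from X)
  let F' := (Scheme.Modules.pullback π).obj F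
  have : Coh.IsQCoh F' := EGA43.InjFibre.isQCoh_pullback π F
  refine ⟨(Coh.push π).obj F', (Scheme.Modules.pullbackPushforwardAdjunction π).unit.app F, ?_,
    isQCoh_push π F', fun q hq => ?_⟩
  · have hinj : ∀ (V : X.Opens) (z : Γ(F, V)), pullSec π z = 0 → z = 0 := fun V z hz => by
      refine AmpleLib.sec_ext F _ _ fun y hy => ?_
      obtain ⟨a, w, hw⟩ := 𝒰.exists_eq y
      refine ⟨𝒰.f a ''ᵁ (𝒰.f a ⁻¹ᵁ V), (𝒰.f a).image_preimage_le V, ?_, ?_⟩
      · exact ⟨w, (show 𝒰.f a w ∈ V from hw ▸ hy), hw⟩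
      rw [map_zero]
      refine pullSec_eq_zero_imp _ F z ?_
      obtain ⟨c, hc⟩ := RelVALib.exists_compIso (Sigma.ι (fun a => 𝒰.X a) a) π (𝒰.f a)
        (Sigma.ι_desc _ _) F
      have hle : 𝒰.f a ⁻¹ᵁ V ≤ Sigma.ι (fun a => 𝒰.X a) a ⁻¹ᵁ (π ⁻¹ᵁ V) := le_of_eq (by
        rw [← Scheme.Hom.comp_preimage]; simp [π])
      apply (ConcreteCategory.bijective_of_isIso (c.hom.app (𝒰.f a ⁻¹ᵁ V))).1
      rw [hc V z hle, hz, map_zero]
      exact (congrArg (resM _ hle) (map_zero (((Scheme.Modules.pullbackPushforwardAdjunction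
        (Sigma.ι (fun a => 𝒰.X a) a)).unit.app F').app (π ⁻¹ᵁ V)).hom)).trans (map_zero _)
    refine ⟨fun u v h => Scheme.Modules.hom_ext _ _ fun V => ?_⟩
    ext z
    have h' := congr($h |>.app V z)
    refine sub_eq_zero.1 (hinj V _ ?_)
    exact (map_sub (((Scheme.Modules.pullbackPushforwardAdjunction π).unit.app F).app V).hom _ _).trans
      (sub_eq_zero.2 h')
  · have := subsingleton_HH_of_isAffine F' q hq
    exact (HHAffinePushEquiv π F' q).symm.toEquiv.subsingleton

variable {A : Type u} [CommRing A] (φ : A →+* Γ(X, ⊤)) {L : X.Modules} (hL : PicF.IsInvertible L)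
  (s : Γ(L, ⊤)) (hs : IsAffineOpen (glocus L s))
include hL hs

/-- A positive-degree class is killed by a power of a section whose locus is affine. -/
theorem exists_postA_rightMul_eq_zero : ∀ (q : ℕ) (F : X.Modules) [Coh.IsQCoh F]
    (x : HA φ F (⊤ : X.Opens) (q + 1)),
    ∃ k : ℕ, postA φ (rightMul F (powSec s k)) ⊤ (q + 1) x = 0 := by
  intro q
  induction q with
  | zero =>
    intro F _ x
    obtain ⟨G, i, hi, hG, hG0⟩ := exists_acyclic_mono F
    have := hi
    let S : ShortComplex X.Modules := ShortComplex.mk i (cokernel.π i) (cokernel.condition i)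
    have hS : S.ShortExact := { exact := ShortComplex.exact_cokernel i }
    have hQ : Coh.IsQCoh S.X₃ := isQCoh_cokernel_of_mono i
    have hF : Coh.IsQCoh S.X₁ := ‹Coh.IsQCoh F›
    have : Subsingleton (HA φ G (⊤ : X.Opens) 1) :=
      haveI := hG0 1 one_pos
      (HHLinEquiv G 1).symm.toEquiv.subsingleton
    obtain ⟨y, rfl⟩ := (exact_deltaA_postA φ hS ⊤ 0 x).1 (Subsingleton.elim _ _)
    let t : Γ(S.X₃, ⊤) := secA φ S.X₃ y
    have hG' : Coh.IsQCoh S.X₂ := hG
    obtain ⟨g, hg⟩ := sections_surjective hS hs (resM S.X₃ (le_top : glocus L s ≤ ⊤) t)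
    obtain ⟨k, t', ht'⟩ := exists_extend S.X₂ s hL g
    have := isQCoh_tensor_invertible S.X₃ (isInvertible_tensorPow hL k)
    let π' : CohB1.tensorMod S.X₂ (CohB1.tensorPow L k) ⟶ CohB1.tensorMod S.X₃ (CohB1.tensorPow L k) :=
      tensorMap S.g (𝟙 _)
    let d : Γ(CohB1.tensorMod S.X₃ (CohB1.tensorPow L k), ⊤) := π'.app ⊤ t' - tmul t (resM _ le_top (powSec s k))
    have hd : resM _ (le_top : glocus L s ≤ ⊤) d = 0 := by
      rw [map_sub, ← app_resM, ht', resM_tmul, resM_resM, sub_eq_zero, tensorMap_tmul, hg, resM_powSec]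
      rfl
    obtain ⟨m, hm⟩ := exists_tmul_powSec_eq_zero _ s hL d hd
    obtain ⟨γ, hγn, hγ⟩ := exists_addShift hL s k m
    refine ⟨k + m, ?_⟩
    let w : Γ(CohB1.tensorMod S.X₂ (CohB1.tensorPow L (k + m)), ⊤) :=
      (γ S.X₂).app ⊤ (tmul t' (resM _ le_top (powSec s m)))
    have hw : (tensorMap S.g (𝟙 _)).app ⊤ w = (rightMul S.X₃ (powSec s (k + m))).app ⊤ t := by
      refine (congrArg (fun ψ : _ ⟶ CohB1.tensorMod S.X₃ (CohB1.tensorPow L (k + m)) =>
        ψ.app ⊤ (tmul t' (resM _ le_top (powSec s m)))) (hγn S.g)).symm.trans ?_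
      show (γ S.X₃).app ⊤ ((tensorMap π' (𝟙 _)).app ⊤ (tmul t' (resM _ le_top (powSec s m)))) =
        tmul t (resM _ le_top (powSec s (k + m)))
      rw [tensorMap_tmul, ← hγ S.X₃ ⊤ t]
      refine congrArg ((γ S.X₃).app ⊤) ?_
      show tmul (π'.app ⊤ t') (resM _ le_top (powSec s m)) = _
      rw [← sub_add_cancel (π'.app ⊤ t') (tmul t (resM _ le_top (powSec s k))), tmul_add_left]
      rw [show resM (CohB1.tensorPow L m) (le_refl ⊤) (powSec s m) = powSec s m from resM_self _ _ _]
      rw [hm, zero_add]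
    have hS' := EulerLib.twistSeq_shortExact (isInvertible_tensorPow hL (k + m)) hS
    let τ : S ⟶ EulerLib.twistSeq S (CohB1.tensorPow L (k + m)) :=
      ⟨rightMul S.X₁ (powSec s (k + m)), rightMul S.X₂ (powSec s (k + m)), rightMul S.X₃ (powSec s (k + m)),
        (rightMul_naturality S.f _).symm, (rightMul_naturality S.g _).symm⟩
    refine (deltaA_natural φ hS hS' τ 0 y).trans ?_
    refine (exact_postA_deltaA φ hS' ⊤ 0 _).2 ⟨(secA φ _).symm w, (secA φ _).injective ?_⟩
    refine (secA_natural φ _ _).trans ?_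
    refine (congrArg ((tensorMap S.g (𝟙 _)).app ⊤) ((secA φ _).apply_symm_apply w)).trans ?_
    exact hw.trans (secA_natural φ τ.τ₃ y).symm
  | succ q ih =>
    intro F _ x
    obtain ⟨G, i, hi, hG, hG0⟩ := exists_acyclic_mono F
    have := hi
    let S : ShortComplex X.Modules := ShortComplex.mk i (cokernel.π i) (cokernel.condition i)
    have hS : S.ShortExact := { exact := ShortComplex.exact_cokernel i }
    have hQ : Coh.IsQCoh S.X₃ := isQCoh_cokernel_of_mono i
    have : Subsingleton (HA φ G (⊤ : X.Opens) (q + 1 + 1)) :=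
      haveI := hG0 (q + 1 + 1) (Nat.succ_pos _)
      (HHLinEquiv G (q + 1 + 1)).symm.toEquiv.subsingleton
    obtain ⟨y, rfl⟩ := (exact_deltaA_postA φ hS ⊤ (q + 1) x).1 (Subsingleton.elim _ _)
    obtain ⟨k, hk⟩ := ih S.X₃ y
    have hS' := EulerLib.twistSeq_shortExact (isInvertible_tensorPow hL k) hS
    let τ : S ⟶ EulerLib.twistSeq S (CohB1.tensorPow L k) :=
      ⟨rightMul S.X₁ (powSec s k), rightMul S.X₂ (powSec s k), rightMul S.X₃ (powSec s k),
        (rightMul_naturality S.f _).symm, (rightMul_naturality S.g _).symm⟩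
    refine ⟨k, (deltaA_natural φ hS hS' τ (q + 1) y).trans ?_⟩
    exact (congrArg (deltaA φ hS' ⊤ (q + 1)) hk).trans (map_zero _)

end Groth.Agent.Coherent.Serre
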