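import Groth.Agent.Coherent.Serre.EGKill
import Groth.Agent.Coherent.Serre.Kill
import Groth.Agent.Coherent.GradedCoh
import Groth.Agent.Coherent.ProjSpaceFinite
import Groth.Agent.DCat.TensorAssoc
import Groth.Agent.AmpleLib.Ample
import Groth.Agent.S0016
import Groth.Agent.Coherent.RpushStalk

/-!
# Serre vanishing on a proper scheme over a Noetherian ring
-/

set_option autoImplicit false
set_option backward.isDefEq.respectTransparency false

universe u

open CategoryTheory CategoryTheory.Limits AlgebraicGeometry Opposite TopologicalSpace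
open Groth.Agent.Coherent Groth.Agent.PicLib Groth.Agent.AmpleLib

namespace Groth.Agent.Coherent.Serre

attribute [local instance] hasFiniteBiproducts

theorem isSeparated_of_isProper {A : CommRingCat.{u}} {X : Scheme.{u}} (f : X ⟶ Spec A) [IsProper f] :
    X.IsSeparated := by
  constructor
  rw [show terminal.from X = f ≫ terminal.from (Spec A) from terminal.hom_ext _ _]
  infer_instance

variable (A : Type u) [CommRing A] [hA : IsNoetherianRing A] {X : Scheme.{u}}
  [hXA : X.Over (Spec (CommRingCat.of A))] [hprop : IsProper (X ↘ Spec (CommRingCat.of A))]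
include hA hprop

omit hA hprop in
/-- The multiplications by sections without common zero generate. -/
theorem secEG_twist {L : X.Modules} {r : ℕ} (b : Fin r → Γ(L, ⊤))
    (hcov : ∀ x : X, ∃ i, x ∈ glocus L (b i)) (F : X.Modules)
    (hN : ∀ n, Coh.IsQCoh (CohB1.tensorMod F (CohB1.tensorPow L n))) :
    SecEG (fun n => CohB1.tensorMod F (CohB1.tensorPow L n)) fun i n => twistMul F (b i) n := by
  let N : ℕ → X.Modules := fun n => CohB1.tensorMod F (CohB1.tensorPow L n)
  let T : Fin r → ∀ n, N n ⟶ N (n + 1) := fun i n => twistMul F (b i) n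
  intro U hU
  refine ⟨0, fun n _ z => ?_⟩
  let Φ : (⨁ fun _ : Fin r => N n) ⟶ N (n + 1) := biproduct.desc fun i => T i n
  have : Epi Φ := by
    refine epi_of_locally_surjective _ fun W a y hy => ?_
    obtain ⟨i, hi⟩ := hcov y
    let V : X.Opens := W ⊓ glocus L (b i)
    have hg : IsGen L V (resM L le_top (b i)) := by
      have h := (isGen_glocus (L := L) (b i)).restrict (inf_le_right : V ≤ glocus L (b i))
      rwa [resM_resM] at h
    obtain ⟨x, hx⟩ := (bijective_tmul_gen (M := F) (isGen_powSec hg (n + 1)) V le_rfl).2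
      (resM _ inf_le_left a)
    simp only [resM_self] at hx
    refine ⟨V, inf_le_left, ⟨hy, hi⟩,
      (biproduct.ι (fun _ : Fin r => N n) i).app V (tmul x (powSec (resM L le_top (b i)) n)), ?_⟩
    refine Eq.trans (congrArg (fun ψ : N n ⟶ N (n + 1) => ψ.app V (tmul x (powSec (resM L le_top (b i)) n)))
      (biproduct.ι_desc (fun i => T i n) i)) ?_
    refine (twistMul_tmul (b i) F n V x _).trans ?_
    exact hx
  let S : ShortComplex X.Modules := ShortComplex.mk (kernel.ι Φ) Φ (kernel.condition Φ)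
  have hS : S.ShortExact :=
    { exact := ShortComplex.exact_of_f_is_kernel _ (kernelIsKernel Φ)
      epi_g := ‹Epi Φ› }
  have := isQCoh_biproduct (fun _ : Fin r => N n) fun _ => hN n
  have := hN (n + 1)
  have : Coh.IsQCoh S.X₁ := isQCoh_kernel Φ
  obtain ⟨w, rfl⟩ := sections_surjective hS hU z
  refine ⟨fun i => (biproduct.π (fun _ : Fin r => N n) i).app U w, ?_⟩
  conv_lhs => rw [← biproduct_sections_total (fun _ : Fin r => N n) U w]
  rw [map_sum]
  refine Finset.sum_congr rfl fun i _ => ?_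
  exact congrArg (fun ψ : N n ⟶ N (n + 1) => ψ.app U ((biproduct.π (fun _ : Fin r => N n) i).app U w))
    (biproduct.ι_desc (fun i => T i n) i)

omit hA hprop in
/-- Every class is killed by a power of multiplication by a section with affine locus. -/
theorem exists_tot_pow_eq_zero {B : Type u} [CommRing B] [CompactSpace X] [X.IsSeparated]
    (φ : B →+* Γ(X, ⊤)) {L : X.Modules} (hL : PicF.IsInvertible L) (s : Γ(L, ⊤))
    (hs : IsAffineOpen (glocus L s)) (F : X.Modules) (q n : ℕ)
    [Coh.IsQCoh (CohB1.tensorMod F (CohB1.tensorPow L n))]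
    (x : HA φ (CohB1.tensorMod F (CohB1.tensorPow L n)) (⊤ : X.Opens) (q + 1)) :
    ∃ k : ℕ, (tot (H := fun m => HA φ (CohB1.tensorMod F (CohB1.tensorPow L m)) (⊤ : X.Opens) (q + 1))
      (fun m => postA φ (twistMul F s m) ⊤ (q + 1)) ^ k) (DirectSum.lof B ℕ _ n x) = 0 := by
  obtain ⟨k, hk⟩ := exists_postA_rightMul_eq_zero φ hL s hs q _ x
  obtain ⟨γ, hγ⟩ := exists_shift hL s F n k
  have h0 : ∀ y, postA φ (twistIter F s n 0) ⊤ (q + 1) y = y := fun y => by
    rw [twistIter_zero]; exact postA_id φ (q + 1) y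
  have hs' : ∀ j y, postA φ (twistIter F s n (j + 1)) ⊤ (q + 1) y =
      postA φ (twistMul F s (n + j)) ⊤ (q + 1) (postA φ (twistIter F s n j) ⊤ (q + 1) y) := fun j y => by
    rw [twistIter_succ]; exact postA_comp φ (twistIter F s n j) (twistMul F s (n + j)) (q + 1) y
  have hz : postA φ (twistIter F s n k) ⊤ (q + 1) x = 0 := by
    rw [← hγ]; exact (postA_comp φ _ γ (q + 1) x).trans ((congrArg (postA φ γ ⊤ (q + 1)) hk).trans (map_zero _))
  refine ⟨k, (tot_pow_lof (H := fun m => HA φ (CohB1.tensorMod F (CohB1.tensorPow L m)) (⊤ : X.Opens) (q + 1))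
    (T := fun m => postA φ (twistMul F s m) ⊤ (q + 1)) n
    (fun j y => postA φ (twistIter F s n j) ⊤ (q + 1) y) h0 hs' k x).trans ?_⟩
  exact (congrArg (DirectSum.lof B ℕ (fun m => HA φ (CohB1.tensorMod F (CohB1.tensorPow L m))
    (⊤ : X.Opens) (q + 1)) (n + k)) hz).trans (map_zero _)

/-- Vanishing for the powers of a module whose sections have affine loci covering the scheme. -/
theorem exists_subsingleton_HH_pow {L : X.Modules} (hL : PicF.IsInvertible L) {r : ℕ}
    (b : Fin r → Γ(L, ⊤)) (haff : ∀ i, IsAffineOpen (glocus L (b i)))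
    (hcov : ∀ x : X, ∃ i, x ∈ glocus L (b i)) (F : X.Modules) (hF : Coh.IsCoh F) (q : ℕ) :
    ∃ N : ℕ, ∀ n : ℕ, N ≤ n →
      Subsingleton (Coh.HH X (CohB1.tensorMod F (CohB1.tensorPow L n)) (q + 1)) := by
  classical
  have : IsLocallyNoetherian X := LocallyOfFiniteType.isLocallyNoetherian (X ↘ Spec (CommRingCat.of A))
  have : CompactSpace X := QuasiCompact.compactSpace_of_compactSpace (X ↘ Spec (CommRingCat.of A))
  have := isSeparated_of_isProper (X ↘ Spec (CommRingCat.of A))
  let φ := baseHom A X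
  let N : ℕ → X.Modules := fun n => CohB1.tensorMod F (CohB1.tensorPow L n)
  have hN : ∀ n, Coh.IsCoh (N n) := fun n => EulerLib.isCoh_twist (isInvertible_tensorPow hL n) hF
  let T : Fin r → ∀ n, N n ⟶ N (n + 1) := fun i n => twistMul F (b i) n
  have hsec : SecEG N T := secEG_twist b hcov F fun n => (hN n).1
  have hfin : ∀ M : X.Modules, Coh.IsCoh M → CohB1.support M ⊆ Set.univ → ∀ p,
      Module.Finite A (HA φ M (⊤ : X.Opens) p) :=
    fun M hM _ p => finCoh_of_isProper (X ↘ Spec (CommRingCat.of A)) M hM p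
  have hEG := eg_HA φ Set.univ hfin r N hN (fun _ => Set.subset_univ _) T
    (fun i j n => twistMul_comm hL (b i) F (b j) n) hsec (q + 1)
  obtain ⟨N₀, hN₀⟩ := eventually_subsingleton hEG (fun n => hfin _ (hN n) (Set.subset_univ _) _)
    (fun i j n x => (postA_comp φ (T j n) (T i (n + 1)) (q + 1) x).symm.trans
      ((congrArg (fun ψ : N n ⟶ N (n + 1 + 1) => postA φ ψ ⊤ (q + 1) x)
        (twistMul_comm hL (b j) F (b i) n)).trans (postA_comp φ (T i n) (T j (n + 1)) (q + 1) x)))
    (fun i n x => by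
      have := (hN n).1
      exact exists_tot_pow_eq_zero φ hL (b i) (haff i) F q n x)
  exact ⟨N₀, fun n hn => @Equiv.subsingleton _ _ (HHLinEquiv (N n) (q + 1)).toEquiv (hN₀ n hn)⟩

omit hA hprop in
include hXA in
theorem HH_subsingleton_of_iso {M M' : X.Modules} (e : M ≅ M') (p : ℕ)
    (h : Subsingleton (Coh.HH X M p)) : Subsingleton (Coh.HH X M' p) :=
  (HHCongr A e.symm p).toEquiv.subsingleton

/-- Serre vanishing. -/
theorem exists_subsingleton_HH_twist {L : X.Modules} (hL : CohB1.IsAmple L) (F : X.Modules)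
    (hF : Coh.IsCoh F) : ∃ n₀ : ℕ, ∀ n : ℕ, n₀ ≤ n → ∀ p : ℕ, 0 < p →
      Subsingleton (Coh.HH X (CohB1.tensorMod F (CohB1.tensorPow L n)) p) := by
  classical
  have : IsLocallyNoetherian X := LocallyOfFiniteType.isLocallyNoetherian (X ↘ Spec (CommRingCat.of A))
  have : CompactSpace X := QuasiCompact.compactSpace_of_compactSpace (X ↘ Spec (CommRingCat.of A))
  have := isSeparated_of_isProper (X ↘ Spec (CommRingCat.of A))
  obtain ⟨hLi, -, hx⟩ := isAmple_iff_affGlocus.1 hL
  choose m hm b hxb _ hbaff using hx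
  obtain ⟨t, ht⟩ := isCompact_univ.elim_finite_subcover (fun x : X => (glocus _ (b x) : Set X))
    (fun x => (glocus _ (b x)).2) (fun x _ => Set.mem_iUnion.2 ⟨x, hxb x⟩)
  let D : ℕ := ∏ x ∈ t, m x
  have hD : 0 < D := Finset.prod_pos fun x _ => hm x
  have hpow : ∀ (d : ℕ) (x : X), (∃ k, 0 < k ∧ m x * k = d) →
      ∃ c : Γ(CohB1.tensorPow L d, ⊤), glocus _ c = glocus _ (b x) := by
    rintro d x ⟨k, hk, rfl⟩
    obtain ⟨e, -⟩ := exists_powPowIso hLi (m x) k
    refine ⟨e.hom.app ⊤ (powSec (b x) k), ?_⟩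
    rw [glocus_map_iso]
    obtain ⟨k, rfl⟩ := Nat.exists_eq_add_one_of_ne_zero hk.ne'
    exact glocus_powSec (isInvertible_tensorPow hLi _) _ k
  let e := t.equivFin
  have hx' : ∀ i, ∃ k, 0 < k ∧ m (e.symm i).1 * k = D := fun i =>
    ⟨∏ x ∈ t.erase (e.symm i).1, m x, Finset.prod_pos fun x _ => hm x,
      Finset.mul_prod_erase t m (e.symm i).2⟩
  choose c hc using fun i => hpow D (e.symm i).1 (hx' i)
  have hcov : ∀ x : X, ∃ i, x ∈ glocus _ (c i) := fun x => by
    obtain ⟨y, hy, hxy⟩ := Set.mem_iUnion₂.1 (ht (Set.mem_univ x))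
    refine ⟨e ⟨y, hy⟩, ?_⟩
    rw [hc, e.symm_apply_apply]
    exact hxy
  have haff : ∀ i, IsAffineOpen (glocus _ (c i)) := fun i => by rw [hc]; exact hbaff _
  obtain ⟨d, hd⟩ := Groth.Agent.S0016.result X
  have main : ∀ (r p : ℕ), ∃ N : ℕ, ∀ j : ℕ, N ≤ j →
      Subsingleton (Coh.HH X (CohB1.tensorMod (CohB1.tensorMod F (CohB1.tensorPow L r))
        (CohB1.tensorPow (CohB1.tensorPow L D) j)) (p + 1)) := fun r p =>
    exists_subsingleton_HH_pow A (isInvertible_tensorPow hLi D) c haff hcov _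
      (EulerLib.isCoh_twist (isInvertible_tensorPow hLi r) hF) p
  choose N hN using main
  let M : ℕ := (Finset.range D).sup fun r => (Finset.range d).sup fun p => N r p
  refine ⟨D * (M + 1), fun n hn p hp => ?_⟩
  obtain ⟨p, rfl⟩ := Nat.exists_eq_add_one_of_ne_zero hp.ne'
  rcases le_or_gt d (p + 1) with hdp | hdp
  · exact hd _ (EulerLib.isCoh_twist (isInvertible_tensorPow hLi n) hF).1 _ hdp
  have hr : n % D < D := Nat.mod_lt _ hD
  have hle : N (n % D) p ≤ M :=
    le_trans (Finset.le_sup (f := fun p => N (n % D) p) (Finset.mem_range.2 (show p < d by omega)))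
      (Finset.le_sup (f := fun r => (Finset.range d).sup fun p => N r p) (Finset.mem_range.2 hr))
  have hj : M + 1 ≤ n / D := (Nat.le_div_iff_mul_le hD).2 (by rw [Nat.mul_comm]; exact hn)
  have h := hN (n % D) p (n / D) (by omega)
  obtain ⟨e₁, -⟩ := exists_powPowIso hLi D (n / D)
  obtain ⟨e₂, -⟩ := exists_powIso hLi (n % D) (D * (n / D))
  refine HH_subsingleton_of_iso A ?_ (p + 1) h
  exact DCat.TensorAssoc.assocIso F (CohB1.tensorPow L (n % D)) _ ≪≫
    tensorIso (Iso.refl F) (tensorIso (Iso.refl _) e₁ ≪≫ e₂ ≪≫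
      eqToIso (congrArg (CohB1.tensorPow L) (Nat.mod_add_div n D)))

end Groth.Agent.Coherent.Serre
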