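import Groth.Agent.Coherent.Serre.Uniform
import Groth.Agent.Coherent.FormalIdeal

/-!
# The successive kernels of a coherent formal module
-/

set_option autoImplicit false
set_option backward.isDefEq.respectTransparency false

universe u

open CategoryTheory CategoryTheory.Limits AlgebraicGeometry Opposite TopologicalSpace
open Groth.Agent.Coherent

namespace Groth.Agent.Coherent.Serre

attribute [local instance] hasFiniteBiproducts

variable {A : Type u} [CommRing A] {X : Scheme.{u}} [X.Over (Spec (CommRingCat.of A))]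

theorem smulMod_natural {M N : X.Modules} (g : M ⟶ N) (a : A) :
    Formal.smulMod A M a ≫ g = g ≫ Formal.smulMod A N a := by
  refine Scheme.Modules.hom_ext _ _ fun U => ?_
  ext m
  show g.app U ((Formal.smulMod A M a).app U m) = (Formal.smulMod A N a).app U (g.app U m)
  rw [smulMod_app, smulMod_app, Scheme.Modules.Hom.app_smul]

theorem ι_smulFamily (J : Ideal A) (M : X.Modules) (c : J) :
    Sigma.ι (fun _ : J => M) c ≫ Formal.smulFamily J M = Formal.smulMod A M (c : A) := by
  simp [Formal.smulFamily]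

variable {I : Ideal A} {G : ℕᵒᵖ ⥤ X.Modules} (hG : Formal.IsCohFormal I G)

/-- The transition map. -/
noncomputable abbrev tr (G : ℕᵒᵖ ⥤ X.Modules) (k : ℕ) : G.obj (op (k + 1)) ⟶ G.obj (op k) :=
  G.map (homOfLE (Nat.le_succ k)).op

include hG

theorem smulFamily_tr (k : ℕ) :
    Formal.smulFamily (I ^ (k + 1)) (G.obj (op (k + 1))) ≫ tr G k = 0 :=
  (hG.2.2 k).choose

theorem exact_smulFamily_tr (k : ℕ) :
    (ShortComplex.mk _ _ (smulFamily_tr hG k)).Exact := by
  have := (hG.2.2 k).choose_spec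
  refine ShortComplex.exact_of_g_is_cokernel _ ?_
  exact IsColimit.ofIsoColimit (cokernelIsCokernel _)
    (Cofork.ext (asIso (cokernel.desc _ _ (smulFamily_tr hG k))) (by simp))

theorem epi_tr (k : ℕ) : Epi (tr G k) := by
  have h : IsIso (cokernel.desc _ _ (smulFamily_tr hG k)) := (hG.2.2 k).choose_spec
  have : Epi (cokernel.desc _ _ (smulFamily_tr hG k)) := @IsIso.epi_of_iso _ _ _ _ _ h
  rw [← cokernel.π_desc _ _ (smulFamily_tr hG k)]
  exact epi_comp _ _

/-- Multiplication by an element of `I^(k+1)`, into the kernel. -/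
noncomputable def kerElem (k : ℕ) {c : A} (hc : c ∈ I ^ (k + 1)) :
    G.obj (op (k + 1)) ⟶ kernel (tr G k) :=
  kernel.lift _ (Formal.smulMod A _ c) (by
    rw [← ι_smulFamily (I ^ (k + 1)) _ ⟨c, hc⟩, Category.assoc, smulFamily_tr hG, comp_zero])

theorem kerElem_ι (k : ℕ) {c : A} (hc : c ∈ I ^ (k + 1)) :
    kerElem hG k hc ≫ kernel.ι (tr G k) = Formal.smulMod A _ c :=
  kernel.lift_ι _ _ _

theorem smulFamily_smul (k : ℕ) {a : A} (ha : a ∈ I) :
    Formal.smulFamily (I ^ (k + 2)) (G.obj (op (k + 2))) ≫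
      Formal.smulMod A (G.obj (op (k + 2))) a = 0 := by
  refine Sigma.hom_ext _ _ fun c => ?_
  rw [comp_zero, ← Category.assoc, ι_smulFamily, ← smulMod_mul]
  exact hG.2.1 (k + 2) _ (by rw [pow_succ']; exact Ideal.mul_mem_mul ha c.2)

/-- Multiplication by `a ∈ I`, one step up. -/
noncomputable def psi (k : ℕ) {a : A} (ha : a ∈ I) : G.obj (op (k + 1)) ⟶ G.obj (op (k + 2)) :=
  have := (hG.2.2 (k + 1)).choose_spec
  inv (cokernel.desc _ _ (smulFamily_tr hG (k + 1))) ≫
    cokernel.desc _ (Formal.smulMod A _ a) (smulFamily_smul hG k ha)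

theorem tr_psi (k : ℕ) {a : A} (ha : a ∈ I) :
    tr G (k + 1) ≫ psi hG k ha = Formal.smulMod A _ a := by
  have := (hG.2.2 (k + 1)).choose_spec
  refine (congrArg (· ≫ psi hG k ha) (cokernel.π_desc _ _ (smulFamily_tr hG (k + 1))).symm).trans ?_
  dsimp only [psi]
  rw [Category.assoc]
  erw [IsIso.hom_inv_id_assoc, cokernel.π_desc]

theorem psi_tr (k : ℕ) {a : A} (ha : a ∈ I) :
    psi hG k ha ≫ tr G (k + 1) = Formal.smulMod A _ a := by
  have := epi_tr hG (k + 1)
  rw [← cancel_epi (tr G (k + 1)), ← Category.assoc, tr_psi, smulMod_natural]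

theorem ι_smul_eq_zero (k : ℕ) {a : A} (ha : a ∈ I) :
    kernel.ι (tr G k) ≫ Formal.smulMod A _ a = 0 := by
  have := (exact_smulFamily_tr hG k).epi_kernelLift
  rw [← cancel_epi (kernel.lift (tr G k) _ (smulFamily_tr hG k)), comp_zero, ← Category.assoc,
    kernel.lift_ι]
  refine Sigma.hom_ext _ _ fun c => ?_
  rw [comp_zero, ← Category.assoc, ι_smulFamily, ← smulMod_mul]
  exact hG.2.1 (k + 1) _ (by rw [pow_succ']; exact Ideal.mul_mem_mul ha c.2)

/-- The operator on kernels. -/
noncomputable def kerOp {a : A} (ha : a ∈ I) (k : ℕ) : kernel (tr G k) ⟶ kernel (tr G (k + 1)) :=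
  kernel.lift _ (kernel.ι (tr G k) ≫ psi hG k ha) (by
    rw [Category.assoc, psi_tr, ι_smul_eq_zero hG k ha])

theorem kerOp_ι {a : A} (ha : a ∈ I) (k : ℕ) :
    kerOp hG ha k ≫ kernel.ι (tr G (k + 1)) = kernel.ι (tr G k) ≫ psi hG k ha :=
  kernel.lift_ι _ _ _

theorem psi_comm (k : ℕ) {a b : A} (ha : a ∈ I) (hb : b ∈ I) :
    psi hG k ha ≫ psi hG (k + 1) hb = psi hG k hb ≫ psi hG (k + 1) ha := by
  have := epi_tr hG (k + 1)
  have := epi_tr hG (k + 2)
  rw [← cancel_epi (tr G (k + 2) ≫ tr G (k + 1))]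
  simp only [Category.assoc]
  rw [← Category.assoc (tr G (k + 1)), tr_psi, ← Category.assoc (tr G (k + 1)), tr_psi]
  rw [← Category.assoc, ← Category.assoc, ← smulMod_natural, ← smulMod_natural]
  simp only [Category.assoc, tr_psi]
  rw [← smulMod_mul, ← smulMod_mul, mul_comm]

theorem kerOp_comm {a b : A} (ha : a ∈ I) (hb : b ∈ I) (k : ℕ) :
    kerOp hG ha k ≫ kerOp hG hb (k + 1) = kerOp hG hb k ≫ kerOp hG ha (k + 1) := by
  rw [← cancel_mono (kernel.ι _)]
  simp only [Category.assoc, kerOp_ι]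
  rw [← Category.assoc, kerOp_ι, ← Category.assoc (kerOp hG hb k), kerOp_ι, Category.assoc,
    Category.assoc, psi_comm]

theorem epi_sum_kerOp {r : ℕ} {a : Fin r → A} (ha : ∀ i, a i ∈ I)
    (hI : Submodule.span A (Set.range a) = I) (k : ℕ) :
    Epi (biproduct.desc fun i => kerOp hG (ha i) k) := by
  let E := biproduct.desc fun i => kerOp hG (ha i) k
  have hfac : ∀ i, kerOp hG (ha i) k ≫ cokernel.π E = 0 := fun i => by
    rw [← biproduct.ι_desc (fun i => kerOp hG (ha i) k) i, Category.assoc, cokernel.condition,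
      comp_zero]
  have hc : ∀ c, c ∈ I * I ^ (k + 1) → ∃ hc : c ∈ I ^ (k + 2),
      kerElem hG (k + 1) hc ≫ cokernel.π E = 0 := fun c hc' => by
    refine Submodule.mul_induction_on (C := fun c => ∃ hc : c ∈ I ^ (k + 2),
      kerElem hG (k + 1) hc ≫ cokernel.π E = 0) hc' ?_ ?_
    · intro m hm b hb
      have hmem : ∀ (m' : A), m' ∈ I → m' * b ∈ I ^ (k + 2) := fun m' h => by
        rw [pow_succ']; exact Ideal.mul_mem_mul h hb
      refine ⟨hmem m hm, ?_⟩
      have hm' : m ∈ Submodule.span A (Set.range a) := hI.ge hm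
      induction hm' using Submodule.span_induction generalizing b with
      | mem x hx =>
        obtain ⟨i, rfl⟩ := hx
        have e : kerElem hG (k + 1) (hmem (a i) hm) =
            tr G (k + 1) ≫ kerElem hG k hb ≫ kerOp hG (ha i) k := by
          rw [← cancel_mono (kernel.ι _), kerElem_ι]
          simp only [Category.assoc, kerOp_ι]
          rw [← Category.assoc (kerElem hG k hb), kerElem_ι, ← Category.assoc,
            ← smulMod_natural, Category.assoc, tr_psi, ← smulMod_mul]
        rw [e, Category.assoc, Category.assoc, hfac, comp_zero, comp_zero]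
      | zero =>
        have e : kerElem hG (k + 1) (hmem 0 hm) = 0 := by
          rw [← cancel_mono (kernel.ι _), kerElem_ι, zero_comp, zero_mul, smulMod_zero]
        rw [e, zero_comp]
      | add x y hx hy ihx ihy =>
        have e : kerElem hG (k + 1) (hmem (x + y) hm) = kerElem hG (k + 1) (hmem x (hI.le hx)) +
            kerElem hG (k + 1) (hmem y (hI.le hy)) := by
          rw [← cancel_mono (kernel.ι _), Preadditive.add_comp, kerElem_ι, kerElem_ι, kerElem_ι,
            ← smulMod_add, add_mul]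
        rw [e, Preadditive.add_comp, ihx (hI.le hx) b hb hmem, ihy (hI.le hy) b hb hmem, add_zero]
      | smul t x hx ihx =>
        have e : kerElem hG (k + 1) (hmem (t • x) hm) =
            Formal.smulMod A _ t ≫ kerElem hG (k + 1) (hmem x (hI.le hx)) := by
          rw [← cancel_mono (kernel.ι _), Category.assoc, kerElem_ι, kerElem_ι, ← smulMod_mul,
            smul_eq_mul]
          congr 1
          ring
        rw [e, Category.assoc, ihx (hI.le hx) b hb hmem, comp_zero]
    · rintro c d ⟨hc1, ihc⟩ ⟨hd1, ihd⟩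
      refine ⟨add_mem hc1 hd1, ?_⟩
      have e : kerElem hG (k + 1) (add_mem hc1 hd1) =
          kerElem hG (k + 1) hc1 + kerElem hG (k + 1) hd1 := by
        rw [← cancel_mono (kernel.ι _), Preadditive.add_comp, kerElem_ι, kerElem_ι, kerElem_ι,
          smulMod_add]
      rw [e, Preadditive.add_comp, ihc, ihd, add_zero]
  refine Preadditive.epi_of_isZero_cokernel E ((IsZero.iff_id_eq_zero _).2 ?_)
  rw [← cancel_epi (cokernel.π E), Category.comp_id, comp_zero]
  have := (exact_smulFamily_tr hG (k + 1)).epi_kernelLift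
  rw [← cancel_epi (kernel.lift (tr G (k + 1)) _ (smulFamily_tr hG (k + 1))), comp_zero]
  refine Sigma.hom_ext _ _ fun c => ?_
  rw [comp_zero, ← Category.assoc]
  obtain ⟨hc₁, h⟩ := hc c (by rw [← pow_succ']; exact c.2)
  have e : Sigma.ι (fun _ : (I ^ (k + 1 + 1) : Ideal A) => G.obj (op (k + 1 + 1))) c ≫
      kernel.lift (tr G (k + 1)) _ (smulFamily_tr hG (k + 1)) = kerElem hG (k + 1) hc₁ := by
    rw [← cancel_mono (kernel.ι _), Category.assoc, kernel.lift_ι, kerElem_ι, ι_smulFamily]
  rw [e, h]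

variable [IsLocallyNoetherian X]

theorem isCoh_kernel_tr (k : ℕ) : Coh.IsCoh (kernel (tr G k)) :=
  isCoh_kernel _ (hG.1 (k + 1)) (hG.1 k).1

theorem secEG_kerOp {r : ℕ} {a : Fin r → A} (ha : ∀ i, a i ∈ I)
    (hI : Submodule.span A (Set.range a) = I) :
    SecEG (fun k => kernel (tr G k)) fun i k => kerOp hG (ha i) k := by
  intro U hU
  refine ⟨0, fun k _ x => ?_⟩
  let F : Fin r → X.Modules := fun _ => kernel (tr G k)
  let E : (⨁ F) ⟶ kernel (tr G (k + 1)) := biproduct.desc fun i => kerOp hG (ha i) k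
  have : Epi E := epi_sum_kerOp hG ha hI k
  have := (isCoh_biproduct F fun _ => isCoh_kernel_tr hG k).1
  have := (isCoh_kernel_tr hG (k + 1)).1
  let S : ShortComplex X.Modules := ShortComplex.mk (kernel.ι E) E (kernel.condition E)
  have hS : S.ShortExact := { exact := ShortComplex.exact_kernel E }
  have : Coh.IsQCoh S.X₁ := isQCoh_kernel E
  obtain ⟨y, rfl⟩ := sections_surjective hS hU x
  refine ⟨fun i => (biproduct.π F i).app U y, ?_⟩
  show E.app U y = _
  conv_lhs => rw [← biproduct_sections_total F U y]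
  rw [map_sum]
  refine Finset.sum_congr rfl fun i _ => ?_
  exact congrArg (fun ψ : F i ⟶ kernel (tr G (k + 1)) => ψ.app U ((biproduct.π F i).app U y))
    (biproduct.ι_desc (fun i => kerOp hG (ha i) k) i)

end Groth.Agent.Coherent.Serre
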