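import Groth.Agent.Coherent.Serre.AdicSys
import Groth.Agent.Coherent.Serre.FormalKernels
import Groth.Agent.Coherent.QcohOps

/-!
# The graded pieces of a compatible system of modules on an adic system of schemes
-/

set_option autoImplicit false
set_option backward.isDefEq.respectTransparency false

universe u

open CategoryTheory CategoryTheory.Limits AlgebraicGeometry Opposite TopologicalSpace
open Groth.Agent.Coherent

namespace Groth.Agent.Coherent.Serre

attribute [local instance] hasFiniteBiproducts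

variable {A : Type u} [CommRing A] {J : Ideal A}

/-- A compatible system of modules on an adic system. -/
structure AdicMod (S : AdicSys J) where
  /-- The levels. -/
  F : ∀ k, (S.X k).Modules
  /-- The comparison maps. -/
  ψ : ∀ k, (Scheme.Modules.pullback (S.i k)).obj (F (k + 1)) ≅ F k

variable {S : AdicSys J} (M : AdicMod S)

/-- Compatibility of multiplication with push forward along the transition maps. -/
theorem AdicSys.push_smul (k : ℕ) (N : (S.X k).Modules) (a : A) :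
    (Coh.push (S.i k)).map (Formal.smulMod A N a) = Formal.smulMod A ((Coh.push (S.i k)).obj N) a :=
  push_smulMod (A := A) (S.i k) (show S.i k ≫ S.s (k + 1) = S.s k from S.hs k) N a

/-- `F (k+1) → i_* F k`. -/
noncomputable def AdicMod.tr (k : ℕ) : M.F (k + 1) ⟶ (Coh.push (S.i k)).obj (M.F k) :=
  clUnit (S.i k) (M.F (k + 1)) ≫ (Coh.push (S.i k)).map (M.ψ k).hom

instance (k : ℕ) : Epi (M.tr k) := by
  have := epi_clUnit (S.i k) (F := M.F (k + 1))
  exact epi_comp (clUnit (S.i k) (M.F (k + 1))) ((Coh.push (S.i k)).map (M.ψ k).hom)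

theorem AdicMod.smulFamily_tr (k : ℕ) :
    Formal.smulFamily (J ^ (k + 1)) (M.F (k + 1)) ≫ M.tr k = 0 := by
  refine Sigma.hom_ext _ _ fun c => ?_
  rw [comp_zero, ← Category.assoc, ι_smulFamily, smulMod_natural, ← S.push_smul,
    S.killedBy k _ c c.2, Functor.map_zero, comp_zero]

theorem killedBy_cokernel_smulFamily {X : Scheme.{u}} [X.Over (Spec (CommRingCat.of A))]
    (K : Ideal A) (N : X.Modules) : Formal.KilledBy K (cokernel (Formal.smulFamily K N)) := fun a ha => by
  rw [← cancel_epi (cokernel.π (Formal.smulFamily K N)), comp_zero, ← smulMod_natural,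
    ← ι_smulFamily K N ⟨a, ha⟩, Category.assoc, cokernel.condition, comp_zero]

theorem AdicMod.exact_tr (k : ℕ) : (ShortComplex.mk _ _ (M.smulFamily_tr k)).Exact := by
  let f := Formal.smulFamily (J ^ (k + 1)) (M.F (k + 1))
  let d := cokernel.desc f (M.tr k) (M.smulFamily_tr k)
  have hC := isIso_clUnit (S.i k) (S.killed_i k (killedBy_cokernel_smulFamily (J ^ (k + 1)) (M.F (k + 1))))
  let back : (Coh.push (S.i k)).obj (M.F k) ⟶ cokernel f :=
    (Coh.push (S.i k)).map (M.ψ k).inv ≫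
      (Coh.push (S.i k)).map ((Scheme.Modules.pullback (S.i k)).map (cokernel.π f)) ≫
        inv (clUnit (S.i k) (cokernel f))
  have hb : M.tr k ≫ back = cokernel.π f := by
    have hn := (Scheme.Modules.pullbackPushforwardAdjunction (S.i k)).unit.naturality (cokernel.π f)
    simp only [AdicMod.tr, back, Category.assoc]
    erw [← Functor.map_comp_assoc, Iso.hom_inv_id, CategoryTheory.Functor.map_id, Category.id_comp]
    rw [← Category.assoc, IsIso.comp_inv_eq]
    exact hn.symm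
  have : Epi d := epi_of_epi_fac (f := cokernel.π f) (g := d) (h := M.tr k) (cokernel.π_desc _ _ _)
  have : Mono d := by
    have h1 : d ≫ back = 𝟙 _ := by
      rw [← cancel_epi (cokernel.π f), Category.comp_id, ← Category.assoc, cokernel.π_desc, hb]
    have : Mono (d ≫ back) := by rw [h1]; infer_instance
    exact mono_of_mono d back
  have : IsIso d := isIso_of_mono_of_epi d
  refine ShortComplex.exact_of_g_is_cokernel _ ?_
  exact IsColimit.ofIsoColimit (cokernelIsCokernel _) (Cofork.ext (asIso d) (by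
    show cokernel.π f ≫ d = M.tr k
    exact cokernel.π_desc _ _ _))

/-- The kernel of `F (k+1) → i_* F k`. -/
noncomputable abbrev AdicMod.K (k : ℕ) : (S.X (k + 1)).Modules := kernel (M.tr k)

/-- Multiplication by an element of `J^(k+1)`, into the kernel. -/
noncomputable def AdicMod.kerElem (k : ℕ) (c : (J ^ (k + 1) : Ideal A)) : M.F (k + 1) ⟶ M.K k :=
  kernel.lift _ (Formal.smulMod A _ (c : A)) (by
    rw [← ι_smulFamily (J ^ (k + 1)) _ c, Category.assoc, M.smulFamily_tr, comp_zero])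

theorem AdicMod.kerElem_ι (k : ℕ) (c : (J ^ (k + 1) : Ideal A)) :
    M.kerElem k c ≫ kernel.ι (M.tr k) = Formal.smulMod A _ (c : A) :=
  kernel.lift_ι _ _ _

theorem AdicMod.kerElem_add (k : ℕ) (c d : (J ^ (k + 1) : Ideal A)) :
    M.kerElem k (c + d) = M.kerElem k c + M.kerElem k d := by
  rw [← cancel_mono (kernel.ι (M.tr k)), Preadditive.add_comp, M.kerElem_ι, M.kerElem_ι, M.kerElem_ι,
    Submodule.coe_add, smulMod_add]

theorem AdicMod.kerElem_zero (k : ℕ) : M.kerElem k 0 = 0 := by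
  rw [← cancel_mono (kernel.ι (M.tr k)), M.kerElem_ι, zero_comp, ZeroMemClass.coe_zero, smulMod_zero]

/-- The maps `kerElem` are jointly epimorphic. -/
theorem AdicMod.kerElem_jointly_epi (k : ℕ) {Z : (S.X (k + 1)).Modules} (g : M.K k ⟶ Z)
    (h : ∀ c, M.kerElem k c ≫ g = 0) : g = 0 := by
  have := (M.exact_tr k).epi_kernelLift
  rw [← cancel_epi (kernel.lift (M.tr k) _ (M.smulFamily_tr k)), comp_zero]
  refine Sigma.hom_ext _ _ fun c => ?_
  rw [comp_zero, ← Category.assoc]
  have e : Sigma.ι (fun _ : (J ^ (k + 1) : Ideal A) => M.F (k + 1)) c ≫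
      kernel.lift (M.tr k) _ (M.smulFamily_tr k) = M.kerElem k c := by
    rw [← cancel_mono (kernel.ι _), Category.assoc, kernel.lift_ι, M.kerElem_ι, ι_smulFamily]
  rw [e, h]

theorem AdicMod.ι_smul_eq_zero (k : ℕ) {a : A} (ha : a ∈ J) :
    kernel.ι (M.tr k) ≫ Formal.smulMod A _ a = 0 := by
  refine M.kerElem_jointly_epi k _ fun c => ?_
  rw [← Category.assoc, M.kerElem_ι, ← smulMod_mul]
  exact S.killedBy (k + 1) _ _ (by rw [pow_succ']; exact Ideal.mul_mem_mul ha c.2)

theorem AdicMod.killedBy_K (k : ℕ) : Formal.KilledBy J (M.K k) := fun a ha => by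
  rw [← cancel_mono (kernel.ι (M.tr k)), zero_comp, smulMod_natural]
  exact M.ι_smul_eq_zero k ha

theorem AdicMod.smulFamily_smul (k : ℕ) {a : A} (ha : a ∈ J) :
    Formal.smulFamily (J ^ (k + 1)) (M.F (k + 1)) ≫ Formal.smulMod A (M.F (k + 1)) a = 0 := by
  refine Sigma.hom_ext _ _ fun c => ?_
  rw [comp_zero, ← Category.assoc, ι_smulFamily, ← smulMod_mul]
  exact S.killedBy (k + 1) _ _ (by rw [pow_succ']; exact Ideal.mul_mem_mul ha c.2)

/-- Multiplication by `a ∈ J`, one step up. -/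
noncomputable def AdicMod.psi (k : ℕ) {a : A} (ha : a ∈ J) :
    (Coh.push (S.i k)).obj (M.F k) ⟶ M.F (k + 1) :=
  (M.exact_tr k).desc (Formal.smulMod A _ a) (M.smulFamily_smul k ha)

theorem AdicMod.tr_psi (k : ℕ) {a : A} (ha : a ∈ J) :
    M.tr k ≫ M.psi k ha = Formal.smulMod A _ a :=
  (M.exact_tr k).g_desc _ _

theorem AdicMod.psi_tr (k : ℕ) {a : A} (ha : a ∈ J) :
    M.psi k ha ≫ M.tr k = Formal.smulMod A _ a := by
  rw [← cancel_epi (M.tr k), ← Category.assoc, M.tr_psi, smulMod_natural]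

/-- The operator on kernels. -/
noncomputable def AdicMod.kerOp (k : ℕ) {a : A} (ha : a ∈ J) :
    (Coh.push (S.i (k + 1))).obj (M.K k) ⟶ M.K (k + 1) :=
  kernel.lift _ ((Coh.push (S.i (k + 1))).map (kernel.ι (M.tr k)) ≫ M.psi (k + 1) ha) (by
    rw [Category.assoc, M.psi_tr, ← S.push_smul, ← Functor.map_comp, M.ι_smul_eq_zero k ha,
      Functor.map_zero])

theorem AdicMod.kerOp_ι (k : ℕ) {a : A} (ha : a ∈ J) :
    M.kerOp k ha ≫ kernel.ι (M.tr (k + 1)) =
      (Coh.push (S.i (k + 1))).map (kernel.ι (M.tr k)) ≫ M.psi (k + 1) ha :=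
  kernel.lift_ι _ _ _

theorem AdicMod.kerElem_mul (k : ℕ) {a : A} (ha : a ∈ J) (c : (J ^ (k + 1) : Ideal A))
    (hac : a * (c : A) ∈ J ^ (k + 1 + 1)) :
    M.kerElem (k + 1) ⟨a * c, hac⟩ =
      M.tr (k + 1) ≫ (Coh.push (S.i (k + 1))).map (M.kerElem k c) ≫ M.kerOp k ha := by
  rw [← cancel_mono (kernel.ι (M.tr (k + 1))), M.kerElem_ι]
  simp only [Category.assoc, M.kerOp_ι]
  rw [← Functor.map_comp_assoc, M.kerElem_ι, S.push_smul, ← Category.assoc, ← smulMod_natural,
    Category.assoc, M.tr_psi, ← smulMod_mul]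

/-- Pulling a pushed module back to the bottom level. -/
noncomputable def AdicSys.Φ (S : AdicSys J) (k : ℕ) :
    Coh.push (S.i k) ⋙ Scheme.Modules.pullback (S.j (k + 1)) ≅ Scheme.Modules.pullback (S.j k) :=
  Functor.isoWhiskerLeft _ (Scheme.Modules.pullbackComp (S.j k) (S.i k)).symm ≪≫
    (Functor.associator _ _ _).symm ≪≫
    Functor.isoWhiskerRight
      (have : ∀ N, IsIso ((Scheme.Modules.pullbackPushforwardAdjunction (S.i k)).counit.app N) :=
        fun N => DCat.ClosedPush.isIso_counit (S.i k) N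
      have := NatIso.isIso_of_isIso_app (Scheme.Modules.pullbackPushforwardAdjunction (S.i k)).counit
      asIso (Scheme.Modules.pullbackPushforwardAdjunction (S.i k)).counit) _ ≪≫
    Functor.leftUnitor _

theorem AdicMod.map_tr_Φ (k : ℕ) :
    (Scheme.Modules.pullback (S.j (k + 1))).map (M.tr k) ≫ (S.Φ k).hom.app (M.F k) =
      (Scheme.Modules.pullbackComp (S.j k) (S.i k)).inv.app (M.F (k + 1)) ≫
        (Scheme.Modules.pullback (S.j k)).map (M.ψ k).hom := by
  simp only [AdicSys.Φ, Iso.trans_hom, NatTrans.comp_app, Functor.isoWhiskerLeft_hom,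
    Functor.whiskerLeft_app, Iso.symm_hom, Functor.associator_inv_app, Functor.isoWhiskerRight_hom,
    Functor.whiskerRight_app, asIso_hom, Functor.leftUnitor_hom_app, Category.comp_id, Category.id_comp]
  erw [Category.comp_id]
  rw [← Category.assoc]
  erw [(Scheme.Modules.pullbackComp (S.j k) (S.i k)).inv.naturality (M.tr k)]
  rw [Category.assoc]
  congr 1
  show (Scheme.Modules.pullback (S.j k)).map ((Scheme.Modules.pullback (S.i k)).map (M.tr k)) ≫ _ = _
  erw [← Functor.map_comp]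
  congr 1
  erw [← Adjunction.homEquiv_counit]
  exact (Equiv.symm_apply_eq _).2 ((Adjunction.homEquiv_unit _ _ _ _).symm)

/-- All levels restrict to the bottom one. -/
noncomputable def AdicMod.θ : ∀ k, (Scheme.Modules.pullback (S.j k)).obj (M.F k) ≅ M.F 0
  | 0 => (Scheme.Modules.pullbackId (S.X 0)).app (M.F 0)
  | k + 1 =>
    have : IsIso ((Scheme.Modules.pullback (S.j (k + 1))).map (M.tr k) ≫ (S.Φ k).hom.app (M.F k)) := by
      rw [M.map_tr_Φ]; infer_instance
    asIso ((Scheme.Modules.pullback (S.j (k + 1))).map (M.tr k) ≫ (S.Φ k).hom.app (M.F k)) ≪≫ AdicMod.θ k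

theorem AdicMod.θ_succ_inv (k : ℕ) :
    (M.θ (k + 1)).inv ≫ (Scheme.Modules.pullback (S.j (k + 1))).map (M.tr k) ≫ (S.Φ k).hom.app (M.F k) =
      (M.θ k).inv := by
  simp [AdicMod.θ]

/-- The graded piece `J^(k+1) F` on the bottom level. -/
noncomputable abbrev AdicMod.N (k : ℕ) : (S.X 0).Modules :=
  (Scheme.Modules.pullback (S.j (k + 1))).obj (M.K k)

/-- Multiplication by `c` into the graded piece. -/
noncomputable def AdicMod.elem (k : ℕ) (c : (J ^ (k + 1) : Ideal A)) : M.F 0 ⟶ M.N k :=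
  (M.θ (k + 1)).inv ≫ (Scheme.Modules.pullback (S.j (k + 1))).map (M.kerElem k c)

theorem AdicMod.elem_add (k : ℕ) (c d : (J ^ (k + 1) : Ideal A)) :
    M.elem k (c + d) = M.elem k c + M.elem k d := by
  rw [AdicMod.elem, M.kerElem_add, Functor.map_add, Preadditive.comp_add]
  rfl

theorem AdicMod.elem_jointly_epi (k : ℕ) {Z : (S.X 0).Modules} (g : M.N k ⟶ Z)
    (h : ∀ c, M.elem k c ≫ g = 0) : g = 0 := by
  let e := (Scheme.Modules.pullbackPushforwardAdjunction (S.j (k + 1))).homEquiv (M.K k) Z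
  have h0 : ∀ c, (Scheme.Modules.pullback (S.j (k + 1))).map (M.kerElem k c) ≫ g = 0 := fun c => by
    have := h c
    rw [AdicMod.elem, Category.assoc] at this
    rwa [← cancel_epi (M.θ (k + 1)).inv, comp_zero]
  have h1 : e g = 0 := M.kerElem_jointly_epi k _ fun c => by
    rw [← Adjunction.homEquiv_naturality_left, h0]
    simp [Adjunction.homEquiv_unit]
  apply e.injective
  rw [h1]
  simp [e, Adjunction.homEquiv_unit]

/-- The operator on graded pieces. -/
noncomputable def AdicMod.T (k : ℕ) {a : A} (ha : a ∈ J) : M.N k ⟶ M.N (k + 1) :=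
  (S.Φ (k + 1)).inv.app (M.K k) ≫ (Scheme.Modules.pullback (S.j (k + 1 + 1))).map (M.kerOp k ha)

theorem AdicMod.elem_T (k : ℕ) {a : A} (ha : a ∈ J) (c : (J ^ (k + 1) : Ideal A))
    (hac : a * (c : A) ∈ J ^ (k + 1 + 1)) :
    M.elem k c ≫ M.T k ha = M.elem (k + 1) ⟨a * c, hac⟩ := by
  have hnat := (S.Φ (k + 1)).inv.naturality (M.kerElem k c)
  rw [AdicMod.elem, AdicMod.elem, M.kerElem_mul k ha c hac, Functor.map_comp, Functor.map_comp,
    ← M.θ_succ_inv (k + 1), AdicMod.T]
  simp only [Category.assoc]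
  congr 2
  erw [reassoc_of% hnat]
  erw [Iso.hom_inv_id_app_assoc]

theorem AdicMod.T_comm (k : ℕ) {a b : A} (ha : a ∈ J) (hb : b ∈ J) :
    M.T k ha ≫ M.T (k + 1) hb = M.T k hb ≫ M.T (k + 1) ha := by
  rw [← sub_eq_zero]
  refine M.elem_jointly_epi k _ fun c => ?_
  have hmem : ∀ x ∈ J, ∀ (m : ℕ) (y : A), y ∈ J ^ (m + 1) → x * y ∈ J ^ (m + 1 + 1) :=
    fun x hx m y hy => by rw [pow_succ']; exact Ideal.mul_mem_mul hx hy
  rw [Preadditive.comp_sub, sub_eq_zero, ← Category.assoc, ← Category.assoc,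
    M.elem_T k ha c (hmem a ha k c c.2), M.elem_T k hb c (hmem b hb k c c.2),
    M.elem_T (k + 1) hb _ (hmem b hb _ _ (hmem a ha k c c.2)),
    M.elem_T (k + 1) ha _ (hmem a ha _ _ (hmem b hb k c c.2))]
  congr 1
  exact Subtype.ext (mul_left_comm b a (c : A))

theorem AdicMod.epi_sum_T {r : ℕ} {a : Fin r → A} (ha : ∀ i, a i ∈ J)
    (hJ : Submodule.span A (Set.range a) = J) (k : ℕ) :
    Epi (biproduct.desc fun i => M.T k (ha i)) := by
  let E := biproduct.desc fun i => M.T k (ha i)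
  have hfac : ∀ i, M.T k (ha i) ≫ cokernel.π E = 0 := fun i => by
    rw [← biproduct.ι_desc (fun i => M.T k (ha i)) i, Category.assoc, cokernel.condition, comp_zero]
  have hz : ∀ (c : A) (hc : c ∈ J ^ (k + 1 + 1)), M.elem (k + 1) ⟨c, hc⟩ ≫ cokernel.π E = 0 := by
    intro c hc
    have hc' : c ∈ J * J ^ (k + 1) := by rw [← pow_succ']; exact hc
    suffices h : ∃ hc : c ∈ J ^ (k + 1 + 1), M.elem (k + 1) ⟨c, hc⟩ ≫ cokernel.π E = 0 from h.choose_spec
    refine Submodule.mul_induction_on (C := fun c => ∃ hc : c ∈ J ^ (k + 1 + 1),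
      M.elem (k + 1) ⟨c, hc⟩ ≫ cokernel.π E = 0) hc' ?_ ?_
    · intro m hm b hb
      have hmem : ∀ x ∈ J, ∀ y ∈ J ^ (k + 1), x * y ∈ J ^ (k + 1 + 1) := fun x hx y hy => by
        rw [pow_succ']; exact Ideal.mul_mem_mul hx hy
      refine ⟨hmem m hm b hb, ?_⟩
      obtain ⟨t, ht⟩ := (Submodule.mem_span_range_iff_exists_fun A).1 (hJ.ge hm)
      have e : (⟨m * b, hmem m hm b hb⟩ : (J ^ (k + 1 + 1) : Ideal A)) =
          ∑ i, ⟨a i * (t i * b), hmem _ (ha i) _ (Ideal.mul_mem_left _ _ hb)⟩ := by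
        refine Subtype.ext ?_
        show m * b = _
        simp only [Submodule.coe_sum, ← ht, Finset.sum_mul, smul_eq_mul]
        exact Finset.sum_congr rfl fun i _ => by ring
      let el : (J ^ (k + 1 + 1) : Ideal A) →+ (M.F 0 ⟶ M.N (k + 1)) :=
        AddMonoidHom.mk' (M.elem (k + 1)) (M.elem_add (k + 1))
      change el _ ≫ _ = 0
      rw [e, map_sum, Preadditive.sum_comp]
      refine Finset.sum_eq_zero fun i _ => ?_
      show M.elem (k + 1) _ ≫ _ = 0
      rw [← M.elem_T k (ha i) ⟨t i * b, Ideal.mul_mem_left _ _ hb⟩, Category.assoc, hfac, comp_zero]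
    · rintro x y ⟨hx, ihx⟩ ⟨hy, ihy⟩
      refine ⟨add_mem hx hy, ?_⟩
      show M.elem (k + 1) (⟨x, hx⟩ + ⟨y, hy⟩) ≫ _ = 0
      rw [M.elem_add, Preadditive.add_comp, ihx, ihy, add_zero]
  refine Preadditive.epi_of_isZero_cokernel E ((IsZero.iff_id_eq_zero _).2 ?_)
  rw [← cancel_epi (cokernel.π E), Category.comp_id, comp_zero]
  exact M.elem_jointly_epi (k + 1) _ fun c => hz c c.2

end Groth.Agent.Coherent.Serre
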