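import Groth.Agent.Coherent.Affineness
import Groth.Agent.EulerLib.Twist
import Groth.Agent.AmpleLib.Ample

/-!
# Ampleness from vanishing of first cohomology of twisted ideals
-/

set_option autoImplicit false
set_option backward.isDefEq.respectTransparency false

universe u

open CategoryTheory CategoryTheory.Limits AlgebraicGeometry Opposite TopologicalSpace
open Groth.Agent.Coherent Groth.Agent.PicLib Groth.Agent.AmpleLib

namespace Groth.Agent.Coherent.Serre

variable {X : Scheme.{u}}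

/-- A closed point has an affine neighbourhood cut out by a section of a positive power. -/
theorem affGlocus_of_isClosed {L : X.Modules} (hL : PicF.IsInvertible L)
    (h : ∀ (I : X.Modules) (i : I ⟶ Coh.structureModule X), Mono i → Coh.IsQCoh I →
      ∃ n : ℕ, Subsingleton (Coh.HH X (CohB1.tensorMod I (CohB1.tensorPow L (n + 1))) 1))
    {x : X} (hx : IsClosed ({x} : Set X)) : AffGlocus L x ⊤ := by
  obtain ⟨U₁, hxU₁, g₁, hg₁⟩ := exists_isGen hL x
  obtain ⟨U₂, hU₂, hxU, hU₂le⟩ := Opens.isBasis_iff_nbhd.mp X.isBasis_affineOpens hxU₁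
  let U : X.Opens := U₂
  have hU : IsAffineOpen U := hU₂
  have hUU₁ : U ≤ U₁ := hU₂le
  let g₀ : Γ(L, U) := resM L hUU₁ g₁
  have hg₀ : IsGen L U g₀ := hg₁.restrict hUU₁
  let Z : Closeds X := ⟨(U : Set X)ᶜ, U.2.isClosed_compl⟩
  let Z' : Closeds X := Z ⊔ ⟨{x}, hx⟩
  have hle : Z ≤ Z' := le_sup_left
  let i := idealOfLE hle
  obtain ⟨n, hn⟩ := h (idealOf Z') (kernel.ι (toRedSub Z')) inferInstance (isQCoh_idealOf Z')
  let N := CohB1.tensorPow L (n + 1)
  have hN : PicF.IsInvertible N := isInvertible_tensorPow hL _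
  let g : Γ(N, U) := powSec g₀ (n + 1)
  have hg : IsGen N U g := isGen_powSec hg₀ _
  let S₀ : ShortComplex X.Modules := ShortComplex.mk i (cokernel.π i) (cokernel.condition i)
  have hS₀ : S₀.ShortExact :=
    { exact := S₀.exact_of_g_is_cokernel (cokernelIsCokernel i) }
  let S := EulerLib.twistSeq S₀ N
  have hS : S.ShortExact := EulerLib.twistSeq_shortExact hN hS₀
  have hH : Subsingleton (Sheaf.H' (Coh.toAb S.X₁) 1 (⊤ : X.Opens)) :=
    @Equiv.subsingleton _ _ (H'TopEquiv (X := X.toTopCat) (Coh.toAb S.X₁) 1).toEquiv hn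
  obtain ⟨k₁, hk₁⟩ : ∃ k, (kernel.ι (toRedSub Z)).app U k = (1 : Γ(X, U)) :=
    (exists_idealOf_iff Z U 1).2 fun z hz hz' => hz (X.basicOpen_le _ hz')
  let V : X.Opens := ⟨{x}ᶜ, hx.isOpen_compl⟩
  have hUV : U ⊔ V = ⊤ := eq_top_iff.2 fun z _ => by
    by_cases h : z = x
    · exact Or.inl (h ▸ hxU)
    · exact Or.inr h
  obtain ⟨k', hk'⟩ : ∃ k', (kernel.ι (toRedSub Z')).app (U ⊓ V) k' = (1 : Γ(X, U ⊓ V)) := by
    refine (exists_idealOf_iff Z' (U ⊓ V) 1).2 fun z hz hz' => ?_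
    obtain ⟨hzU, hzV⟩ := X.basicOpen_le _ hz'
    rcases hz with hz | hz
    · exact hz hzU
    · exact hzV hz
  let w : Γ(S.X₂, U) := tmul k₁ g
  have hzero : resM S.X₃ (inf_le_left : U ⊓ V ≤ U) (S.g.app U w) = 0 := by
    rw [← app_resM]
    have e : resM (idealOf Z) inf_le_left k₁ = i.app (U ⊓ V) k' := by
      apply app_injective_of_mono (kernel.ι (toRedSub Z)) (U ⊓ V)
      rw [app_resM, hk₁]
      refine (map_one (X.presheaf.map (homOfLE (inf_le_left : U ⊓ V ≤ U)).op).hom).trans ?_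
      rw [← hk', ← idealOfLE_ι hle]
      rfl
    have e' : resM S.X₂ inf_le_left w = S.f.app (U ⊓ V) (tmul k' (resM N inf_le_left g)) := by
      refine (resM_tmul inf_le_left k₁ g).trans ?_
      refine Eq.trans (congrArg (fun t => tmul t (resM N inf_le_left g)) e) ?_
      exact (tensorMap_tmul i (𝟙 N) k' (resM N inf_le_left g)).symm
    rw [e']
    exact sections_zero (S := S) _ _
  obtain ⟨q, hqU, -⟩ := exists_glue S.X₃ hUV (S.g.app U w) 0 (hzero.trans (map_zero _).symm)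
  obtain ⟨k, hk⟩ := sections_top_surjective_of_subsingleton hS hH q
  -- the section
  let Φ : S.X₂ ⟶ N := tensorMap (kernel.ι (toRedSub Z)) (𝟙 N) ≫ (unitTensorIso N).hom
  have hΦ : ∀ (W : X.Opens) (a : Γ(idealOf Z, W)) (c : Γ(N, W)),
      Φ.app W (tmul a c) = (show Γ(X, W) from (kernel.ι (toRedSub Z)).app W a) • c := fun W a c => by
    refine (congrArg ((unitTensorIso N).hom.app W)
      (tensorMap_tmul (kernel.ι (toRedSub Z)) (𝟙 N) a c)).trans ?_
    exact Bilin.desc_tmul _ _ _ _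
  let s : Γ(N, ⊤) := Φ.app ⊤ k
  have hcoef : ∀ (W : X.Opens) (gW : Γ(N, W)) (hgW : IsGen N W gW) (a : Γ(idealOf Z, W)),
      tmul a gW = resM S.X₂ le_top k →
      glocus N s ⊓ W = X.basicOpen (show Γ(X, W) from (kernel.ι (toRedSub Z)).app W a) := by
    intro W gW hgW a ha
    rw [glocus_inf s hgW]
    refine congrArg X.basicOpen (hgW.coef_eq le_rfl ?_)
    rw [resM_self]
    refine (hΦ W a gW).symm.trans ?_
    rw [ha]
    exact app_resM Φ le_top k
  have hsU : glocus N s ≤ U := fun z hz => by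
    by_contra hzU
    obtain ⟨W, hzW, gW, hgW⟩ := exists_isGen hN z
    obtain ⟨a, ha⟩ := (bijective_tmul_gen (M := idealOf Z) hgW W le_rfl).2 (resM S.X₂ le_top k)
    simp only [resM_self] at ha
    exact (exists_idealOf_iff Z W _).1 ⟨a, rfl⟩ z hzU ((hcoef W gW hgW a ha).le ⟨hz, hzW⟩)
  obtain ⟨a, ha⟩ := (bijective_tmul_gen (M := idealOf Z) hg U le_rfl).2 (resM S.X₂ le_top k)
  simp only [resM_self] at ha
  let f : Γ(X, U) := (kernel.ι (toRedSub Z)).app U a
  have hsf : glocus N s ⊓ U = X.basicOpen f := hcoef U g hg a ha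
  obtain ⟨c, hc⟩ := sections_exact hS (resM S.X₂ (le_top : U ≤ ⊤) k - w) (by
    rw [map_sub]
    refine sub_eq_zero.2 ?_
    rw [app_resM]
    exact (congrArg (resM S.X₃ le_top) hk).trans hqU)
  obtain ⟨c', rfl⟩ := (bijective_tmul_gen (M := idealOf Z') hg U le_rfl).2 c
  have hac : a = i.app U c' + k₁ := by
    refine (bijective_tmul_gen (M := idealOf Z) hg U le_rfl).1 ?_
    simp only [resM_self] at hc ⊢
    rw [tmul_add_left, ha]
    refine Eq.trans ?_ (congrArg (· + tmul k₁ g) (tensorMap_tmul i (𝟙 N) c' g))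
    exact (sub_eq_iff_eq_add.1 hc.symm)
  have hxf : x ∈ X.basicOpen f := by
    let d : Γ(X, U) := (kernel.ι (toRedSub Z')).app U c'
    have hfd : f = d + 1 := by
      show (kernel.ι (toRedSub Z)).app U a = _
      rw [hac, map_add, hk₁]
      refine congrArg (· + (1 : Γ(X, U))) ?_
      exact congrArg (fun ψ : idealOf Z' ⟶ Coh.structureModule X => ψ.app U c') (idealOfLE_ι hle)
    have hxd : x ∉ X.basicOpen d := (exists_idealOf_iff Z' U d).1 ⟨c', rfl⟩ x (Or.inr rfl)
    refine (Scheme.mem_basicOpen'' _ _ _).2 ⟨hxU, ?_⟩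
    have hxd' : ¬ IsUnit (X.presheaf.germ U x hxU d) := fun h =>
      hxd ((Scheme.mem_basicOpen'' _ _ _).2 ⟨hxU, h⟩)
    rw [hfd, map_add, map_one]
    rcases IsLocalRing.isUnit_or_isUnit_one_sub_self (-(X.presheaf.germ U x hxU d)) with h | h
    · exact absurd (by simpa using h.neg) hxd'
    · simpa [add_comm] using h
  refine ⟨n + 1, n.succ_pos, s, (hsf.ge hxf).1, le_top, ?_⟩
  rw [← inf_eq_left.2 hsU, hsf]
  exact hU.basicOpen f

/-- An invertible module whose twisted ideals have no first cohomology is ample. -/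
theorem isAmple_of_H1_twisted_ideals [CompactSpace X] {L : X.Modules} (hL : PicF.IsInvertible L)
    (h : ∀ (I : X.Modules) (i : I ⟶ Coh.structureModule X), Mono i → Coh.IsQCoh I →
      ∃ n : ℕ, Subsingleton (Coh.HH X (CohB1.tensorMod I (CohB1.tensorPow L (n + 1))) 1)) :
    CohB1.IsAmple L := by
  refine isAmple_iff_affGlocus.2 ⟨hL, inferInstance, fun x => ?_⟩
  obtain ⟨y, hy, hyc⟩ := (isClosed_closure (s := ({x} : Set X))).exists_closed_singleton
    ⟨x, subset_closure rfl⟩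
  obtain ⟨m, hm, b, hyb, -, hb⟩ := affGlocus_of_isClosed hL h hyc
  obtain ⟨z, hzb, rfl⟩ := mem_closure_iff.1 hy _ (glocus _ b).2 hyb
  exact ⟨m, hm, b, hzb, le_top, hb⟩

end Groth.Agent.Coherent.Serre
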