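import Groth.Agent.Coherent.Serre.FinitePush
import Groth.Agent.Coherent.Serre.Vanishing
import Groth.Agent.Coherent.Serre.AmpleCriterion
import Groth.Agent.Coherent.ProjFormula
import Groth.Agent.PicLib.PicMonoid
import Groth.Agent.PicLib.FiniteSetTriv
import Groth.Agent.Coherent.SchemeCoh

/-!
# Ampleness is tested on finite covers of integral closed subschemes
-/

set_option autoImplicit false
set_option backward.isDefEq.respectTransparency false

universe u

open CategoryTheory CategoryTheory.Abelian CategoryTheory.Limits AlgebraicGeometry Opposite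
  TopologicalSpace
open Groth.Agent.Coherent Groth.Agent.PicLib Groth.Agent.AmpleLib

namespace Groth.Agent.Coherent.Serre

variable {X : Scheme.{u}}

/-- Twists of `F` eventually lose their cohomology in degree `p`. -/
def EvVanish (L : X.Modules) (p : ℕ) (F : X.Modules) : Prop :=
  ∃ N : ℕ, ∀ n : ℕ, N ≤ n →
    Subsingleton (Sheaf.H' (Coh.toAb (CohB1.tensorMod F (CohB1.tensorPow L n))) p (⊤ : X.Opens))

theorem subsingleton_H'_top_iff (F : X.Modules) (p : ℕ) :
    Subsingleton (Sheaf.H' (Coh.toAb F) p (⊤ : X.Opens)) ↔ Subsingleton (Coh.HH X F p) :=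
  (H'TopEquiv (X := X.toTopCat) (Coh.toAb F) p).toEquiv.subsingleton_congr

/-- Vanishing of cohomology of a quotient. -/
theorem subsingleton_H'_X₃ {S : ShortComplex X.Modules} (hS : S.ShortExact) (n : ℕ) (U : X.Opens)
    (h₁ : Subsingleton (Sheaf.H' (Coh.toAb S.X₁) (n + 1) U))
    (h₂ : Subsingleton (Sheaf.H' (Coh.toAb S.X₂) n U)) :
    Subsingleton (Sheaf.H' (Coh.toAb S.X₃) n U) := by
  refine subsingleton_of_forall_eq 0 fun x => ?_
  have hS' := toAb_shortExact hS
  obtain ⟨y, hy⟩ := Ext.covariant_sequence_exact₃ (freeSh (X := X.toTopCat) U) hS' (n₀ := n) x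
    (rfl : n + 1 = n + 1) (h₁.elim _ _)
  have hy0 : y = 0 := h₂.elim y 0
  rw [hy0, Ext.zero_comp] at hy
  exact hy.symm

theorem extClass_evVanish {L : X.Modules} (hL : PicF.IsInvertible L) (p : ℕ) :
    ExtClass (EvVanish L p) where
  iso := fun e ⟨N, hN⟩ => ⟨N, fun n hn =>
    subsingleton_H'_of_iso (tensorIso e (Iso.refl _)) p ⊤ (hN n hn)⟩
  zero := fun M hM => ⟨0, fun n _ => by
    have hz : IsZero (CohB1.tensorMod M (CohB1.tensorPow L n)) := by
      refine (IsZero.iff_id_eq_zero _).2 (AmpleLib.hom_ext fun U a b => ?_)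
      have ha : a = 0 := congrArg (fun φ : M ⟶ M => φ.app U a) ((IsZero.iff_id_eq_zero _).1 hM)
      rw [ha, tmul_zero_left, map_zero, map_zero]
    have hz' := Functor.map_isZero (toAbFunctor X) hz
    refine subsingleton_of_forall_eq 0 fun x => ?_
    refine (Ext.comp_mk₀_id x).symm.trans ?_
    rw [(IsZero.iff_id_eq_zero _).1 hz', Ext.mk₀_zero, Ext.comp_zero]⟩
  ext := fun S hS _ _ _ ⟨N₁, h₁⟩ ⟨N₃, h₃⟩ => ⟨max N₁ N₃, fun n hn =>
    subsingleton_H'_X₂ (EulerLib.twistSeq_shortExact (isInvertible_tensorPow hL n) hS) p ⊤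
      (h₁ n (le_of_max_le_left hn)) (h₃ n (le_of_max_le_right hn))⟩

/-- Twists of a direct image from a finite scheme with ample pullback lose their cohomology. -/
theorem evVanish_push (A : Type u) [CommRing A] [IsNoetherianRing A] (q : X ⟶ Spec (CommRingCat.of A))
    [IsProper q] {Z' : Scheme.{u}} (g : Z' ⟶ X) [IsFinite g] {L : X.Modules} (hL : PicF.IsInvertible L)
    (hA : CohB1.IsAmple ((Scheme.Modules.pullback g).obj L)) (M : Z'.Modules) (hM : Coh.IsCoh M)
    (p : ℕ) (hp : 0 < p) : EvVanish L p ((Coh.push g).obj M) := by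
  let _ : Z'.Over (Spec (CommRingCat.of A)) := ⟨g ≫ q⟩
  have : IsProper (Z' ↘ Spec (CommRingCat.of A)) := inferInstanceAs (IsProper (g ≫ q))
  have : IsLocallyNoetherian X := LocallyOfFiniteType.isLocallyNoetherian q
  have : IsLocallyNoetherian Z' := LocallyOfFiniteType.isLocallyNoetherian g
  obtain ⟨N, hN⟩ := exists_subsingleton_HH_twist A hA M hM
  refine ⟨N, fun n hn => (subsingleton_H'_top_iff _ p).2 ?_⟩
  let P := CohB1.tensorPow L n
  have hP : FlatMod.IsFinLocFree P := fun x => by
    obtain ⟨U, hx, e⟩ := isFinLocFreeOfRank_one (isInvertible_tensorPow hL n) x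
    exact ⟨U, 1, hx, e⟩
  obtain ⟨e, -⟩ := exists_pullPowIso g hL n
  let e₁ : CohB1.tensorMod M (CohB1.tensorPow ((Scheme.Modules.pullback g).obj L) n) ≅
      CohB1.tensorMod ((Scheme.Modules.pullback g).obj P) M :=
    tensorIso (Iso.refl M) e.symm ≪≫ tensorComm _ _
  have h1 : Subsingleton (Coh.HH Z' (CohB1.tensorMod ((Scheme.Modules.pullback g).obj P) M) p) :=
    HH_subsingleton_of_iso A e₁ p (hN n hn p hp)
  have : Coh.IsQCoh (CohB1.tensorMod ((Scheme.Modules.pullback g).obj P) M) :=
    (isCoh_iso e₁ (EulerLib.isCoh_twist (isInvertible_tensorPow (PicLoc.isInvertible_pullback g hL) n) hM)).1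
  have h2 : Subsingleton
      (Coh.HH X ((Coh.push g).obj (CohB1.tensorMod ((Scheme.Modules.pullback g).obj P) M)) p) :=
    @Equiv.subsingleton _ _
      (HHAffinePushEquiv g (CohB1.tensorMod ((Scheme.Modules.pullback g).obj P) M) p).toEquiv.symm h1
  refine (subsingleton_H'_top_iff _ p).1 (subsingleton_H'_of_iso ?_ p ⊤
    ((subsingleton_H'_top_iff _ p).2 h2))
  exact ((projIso (f := g) hP).app M).symm ≪≫ tensorComm _ _

/-- An invertible module on a scheme proper over a Noetherian ring is ample if, for every point,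
some finite scheme over its closure hitting it has ample pullback. -/
theorem isAmple_of_covers (A : Type u) [CommRing A] [IsNoetherianRing A]
    (q : X ⟶ Spec (CommRingCat.of A)) [IsProper q] {L : X.Modules} (hL : PicF.IsInvertible L)
    (h : ∀ y : X, ∃ (Z' : Scheme.{u}) (g : Z' ⟶ X), AlgebraicGeometry.IsReduced Z' ∧ IsFinite g ∧
      Set.range g ⊆ closure {y} ∧ y ∈ Set.range g ∧
      CohB1.IsAmple ((Scheme.Modules.pullback g).obj L)) :
    CohB1.IsAmple L := by
  have : IsLocallyNoetherian X := LocallyOfFiniteType.isLocallyNoetherian q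
  have : CompactSpace X := QuasiCompact.compactSpace_of_compactSpace q
  have : IsNoetherian X := { }
  have : X.IsSeparated := isSeparated_of_isProper q
  obtain ⟨d, hd⟩ := Groth.Agent.S0016.result X
  have main : ∀ k p, 0 < p → d ≤ p + k → ∀ F : X.Modules, Coh.IsCoh F → EvVanish L p F := by
    intro k
    induction k with
    | zero =>
      intro p hp hdp F hF
      exact ⟨0, fun n _ => (subsingleton_H'_top_iff _ p).2
        (hd _ (EulerLib.isCoh_twist (isInvertible_tensorPow hL n) hF).1 p (by omega))⟩
    | succ k ih =>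
      intro p hp hdp F hF
      have hup := ih (p + 1) p.succ_pos (by omega)
      refine mem_of_support (extClass_evVanish hL p) Set.univ
        (fun Z _ _ _ y hy Z₀ hZ₀ hsm => ?_) ⊤ (Set.subset_univ _) F hF (Set.subset_univ _)
      obtain ⟨Z', g, hred, hfin, hrange, hyr, hamp⟩ := h y
      refine oneK_of_finite_push (extClass_evVanish hL p) ?_ hsm g hrange hyr (hy ▸ hZ₀)
        (fun M hM => evVanish_push A q g hL hamp M hM p hp)
      intro E G π hπ hE hG ⟨N, hN⟩
      obtain ⟨N', hN'⟩ := hup (kernel π) (isCoh_kernel π hE hG.1)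
      let S : ShortComplex X.Modules := ShortComplex.mk (kernel.ι π) π (kernel.condition π)
      have hS : S.ShortExact := { exact := ShortComplex.exact_kernel π }
      exact ⟨max N N', fun n hn => subsingleton_H'_X₃
        (EulerLib.twistSeq_shortExact (isInvertible_tensorPow hL n) hS) p ⊤
        (hN' n (le_of_max_le_right hn)) (hN n (le_of_max_le_left hn))⟩
  refine isAmple_of_H1_twisted_ideals hL fun I i _ hI => ?_
  obtain ⟨N, hN⟩ := main d 1 one_pos (by omega) I (isCoh_of_mono i (isCoh_structureModule X) hI)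
  exact ⟨N, (subsingleton_H'_top_iff _ 1).1 (hN (N + 1) N.le_succ)⟩

section Pieces

/-- The reduced subscheme on the closure of a point. -/
noncomputable abbrev closurePiece (y : X) : X.IdealSheafData :=
  Scheme.IdealSheafData.vanishingIdeal ⟨closure {y}, isClosed_closure⟩

theorem range_closurePiece (y : X) : Set.range (closurePiece y).subschemeι = closure {y} := by
  rw [Scheme.IdealSheafData.range_subschemeι, Scheme.IdealSheafData.coe_support_vanishingIdeal]; rfl

/-- Ample on a closed subscheme containing `y`, hence on the closure of `y`. -/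
theorem isAmple_closurePiece_of_le {L : X.Modules} {I : X.IdealSheafData} {y : X}
    (hy : y ∈ I.support) (h : CohB1.IsAmple ((Scheme.Modules.pullback I.subschemeι).obj L)) :
    CohB1.IsAmple ((Scheme.Modules.pullback (closurePiece y).subschemeι).obj L) := by
  have hle : I ≤ closurePiece y := Scheme.IdealSheafData.le_support_iff_le_vanishingIdeal.1
    (I.support.2.closure_subset_iff.2 (Set.singleton_subset_iff.2 hy))
  let j := Scheme.IdealSheafData.inclusion hle
  have : IsClosedImmersion j := IsClosedImmersion.of_comp j I.subschemeι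
  exact isAmple_of_iso ((Scheme.Modules.pullbackComp j I.subschemeι).app L ≪≫
      (Scheme.Modules.pullbackCongr (Scheme.IdealSheafData.inclusion_subschemeι hle)).app L)
    (isAmple_pullback_of_isAffineHom j h)

/-- Ampleness is tested on the integral closed subschemes. -/
theorem isAmple_of_closurePieces (A : Type u) [CommRing A] [IsNoetherianRing A]
    (q : X ⟶ Spec (CommRingCat.of A)) [IsProper q] {L : X.Modules} (hL : PicF.IsInvertible L)
    (h : ∀ y : X, CohB1.IsAmple ((Scheme.Modules.pullback (closurePiece y).subschemeι).obj L)) :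
    CohB1.IsAmple L :=
  isAmple_of_covers A q hL fun y => ⟨_, (closurePiece y).subschemeι,
    Props12.isReduced_subscheme_vanishingIdeal _, inferInstance, (range_closurePiece y).le,
    (range_closurePiece y).ge (subset_closure rfl), h y⟩

end Pieces

end Groth.Agent.Coherent.Serre
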