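import Groth.Agent.Coherent.Serre.AdicMod
import Groth.Agent.Coherent.Serre.AmpleCover
import Groth.Agent.AmpleLib.Generated
import Groth.Agent.AmpleLib.CounitEpi

/-!
# Uniform vanishing and generation on the levels of an adic system
-/

set_option autoImplicit false
set_option backward.isDefEq.respectTransparency false

universe u

open CategoryTheory CategoryTheory.Limits AlgebraicGeometry Opposite TopologicalSpace
open Groth.Agent.Coherent Groth.Agent.PicLib Groth.Agent.AmpleLib

namespace Groth.Agent.Coherent.Serre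

attribute [local instance] hasFiniteBiproducts

section General

variable {X Z : Scheme.{u}} (g : Z ⟶ X)

/-- Twists of a direct image along an affine morphism. -/
noncomputable def pushTwistIso [IsAffineHom g] {L : X.Modules} (hL : PicF.IsInvertible L) {L' : Z.Modules}
    (e : (Scheme.Modules.pullback g).obj L ≅ L') (M : Z.Modules) (n : ℕ) :
    (Coh.push g).obj (CohB1.tensorMod M (CohB1.tensorPow L' n)) ≅
      CohB1.tensorMod ((Coh.push g).obj M) (CohB1.tensorPow L n) :=
  have hP : FlatMod.IsFinLocFree (CohB1.tensorPow L n) := fun x => by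
    obtain ⟨U, hx, e⟩ := isFinLocFreeOfRank_one (isInvertible_tensorPow hL n) x
    exact ⟨U, 1, hx, e⟩
  (Coh.push g).mapIso (tensorIso (Iso.refl M)
      ((powIsoOfIso e n).symm ≪≫ (exists_pullPowIso g hL n).choose.symm) ≪≫ tensorComm _ _) ≪≫
    ((projIso (f := g) hP).app M).symm ≪≫ tensorComm _ _

theorem vanishesFrom_push [IsAffineHom g] [IsLocallyNoetherian Z] {L : X.Modules}
    (hL : PicF.IsInvertible L) {L' : Z.Modules} (hL' : PicF.IsInvertible L')
    (e : (Scheme.Modules.pullback g).obj L ≅ L') {M : Z.Modules} (hM : Coh.IsCoh M) {n₀ : ℕ}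
    (h : VanishesFrom L' n₀ M) : VanishesFrom L n₀ ((Coh.push g).obj M) := fun n hn p hp => by
  have := (EulerLib.isCoh_twist (isInvertible_tensorPow hL' n) hM).1
  refine subsingleton_H'_of_iso (pushTwistIso g hL e M n) p ⊤ ?_
  exact @Equiv.subsingleton _ _ (H'AffinePushEquiv g
    (CohB1.tensorMod M (CohB1.tensorPow L' n)) (⊤ : X.Opens) p).toEquiv.symm (h n hn p hp)

theorem vanishesFrom_of_iso {L : X.Modules} {n₀ : ℕ} {M M' : X.Modules} (e : M ≅ M')
    (h : VanishesFrom L n₀ M) : VanishesFrom L n₀ M' := fun n hn p hp =>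
  subsingleton_H'_of_iso (tensorIso e (Iso.refl _)) p ⊤ (h n hn p hp)

theorem unit_hom_ext {M : X.Modules} {φ ψ : Coh.structureModule X ⟶ M}
    (h : unitVal φ (⊤ : X.Opens) = unitVal ψ (⊤ : X.Opens)) : φ = ψ := by
  refine Scheme.Modules.hom_ext _ _ fun W => ?_
  ext r
  refine (app_unit φ r).trans (Eq.trans ?_ (app_unit ψ r).symm)
  rw [← resM_unitVal φ (le_top : W ≤ ⊤), h, resM_unitVal]

/-- Pushing a quotient of a free module along a closed immersion, lifting through a map that is
surjective on global sections. -/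
theorem exists_free_comp_epi [IsClosedImmersion g] {N : Z.Modules} (hN : Curv2.IsGloballyGenerated N)
    (hkill : ∀ (Q : X.Modules) (q : (Coh.push g).obj N ⟶ Q), Epi q → ClSub.KilledByIdeal g.ker Q)
    {F : X.Modules} (h : F ⟶ (Coh.push g).obj N) (hs : Function.Surjective (h.app (⊤ : X.Opens))) :
    ∃ (I : Type u) (f : freeMod X I ⟶ F), Epi (f ≫ h) := by
  obtain ⟨I, p₀, hp₀⟩ := hN
  let p : freeMod Z I ⟶ N := p₀
  have hp : Epi p := hp₀
  have hlift : ∀ i, ∃ t : Γ(F, (⊤ : X.Opens)),
      h.app ⊤ t = (show Γ((Coh.push g).obj N, (⊤ : X.Opens)) from unitVal (freeInj i ≫ p) (⊤ : Z.Opens)) :=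
    fun i => hs _
  choose t ht using hlift
  let f : freeMod X I ⟶ F := freeDesc fun i => unitDesc F (t i)
  refine ⟨I, f, ?_⟩
  let adj := Scheme.Modules.pullbackPushforwardAdjunction g
  let fl := (adj.homEquiv _ N).symm (f ≫ h)
  let v : freeMod Z I ⟶ (Scheme.Modules.pullback g).obj (freeMod X I) := freeDesc fun i =>
    unitDesc _ (show Γ((Scheme.Modules.pullback g).obj (freeMod X I), (⊤ : Z.Opens)) from
      pullSec g (freeBasisVec (X := X) i ⊤))
  have hv : v ≫ fl = p := by
    refine freeMod_hom_ext fun i => unit_hom_ext ?_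
    rw [← Category.assoc, freeInj_freeDesc]
    show fl.app ⊤ (unitVal (unitDesc ((Scheme.Modules.pullback g).obj (freeMod X I)) _) ⊤) = _
    rw [unitVal_unitDesc, resM_self]
    refine (homEquiv_symm_app_pullSec g (f ≫ h) (U := (⊤ : X.Opens)) (freeBasisVec i ⊤)).trans ?_
    show h.app ⊤ (f.app ⊤ (freeBasisVec i ⊤)) = _
    have e : f.app ⊤ (freeBasisVec i ⊤) = t i := by
      show unitVal (freeInj i ≫ f) ⊤ = t i
      rw [freeInj_freeDesc, unitVal_unitDesc, resM_self]
    rw [e, ht]
  have : Epi (v ≫ fl) := by rw [hv]; exact hp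
  have : Epi fl := epi_of_epi v fl
  have hfh : f ≫ h = clUnit g (freeMod X I) ≫ (Coh.push g).map fl := by
    have := adj.homEquiv_unit (X := freeMod X I) (f := fl)
    rw [Equiv.apply_symm_apply] at this
    exact this
  rw [hfh]
  have := epi_clUnit g (F := freeMod X I)
  have : Epi ((Coh.push g).map fl) := by
    refine ⟨fun {Q} a b hab => ?_⟩
    rw [← sub_eq_zero]
    let q := cokernel.π ((Coh.push g).map fl)
    suffices hq : q = 0 by
      have h0 : (Coh.push g).map fl ≫ (a - b) = 0 := by rw [Preadditive.comp_sub, hab, sub_self]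
      rw [← cokernel.π_desc _ _ h0]
      change q ≫ _ = 0
      rw [hq, zero_comp]
    have hn := adj.counit.naturality fl
    have hq0 : (Scheme.Modules.pullback g).map q = 0 := by
      have := DCat.ClosedPush.isIso_counit g N
      have := DCat.ClosedPush.isIso_counit g ((Scheme.Modules.pullback g).obj (freeMod X I))
      have : Epi ((Scheme.Modules.pullback g).map ((Coh.push g).map fl)) := by
        have e : (Scheme.Modules.pullback g).map ((Coh.push g).map fl) =
            (adj.counit.app _ ≫ fl) ≫ inv (adj.counit.app N) := by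
          rw [IsIso.eq_comp_inv]
          exact hn
        rw [e]
        infer_instance
      rw [← cancel_epi ((Scheme.Modules.pullback g).map ((Coh.push g).map fl)), ← Functor.map_comp,
        cokernel.condition, Functor.map_zero, comp_zero]
    have hk := hkill _ q inferInstance
    have := isIso_clUnit g hk
    have hu := (adj.unit.naturality q)
    rw [← cancel_mono (clUnit g (cokernel ((Coh.push g).map fl))), zero_comp]
    refine hu.trans ?_
    show _ ≫ (Coh.push g).map ((Scheme.Modules.pullback g).map q) = 0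
    rw [hq0, Functor.map_zero, comp_zero]
  exact epi_comp _ _

end General

section System

variable {A : Type u} [CommRing A] {J : Ideal A} {S : AdicSys J}

theorem AdicMod.isCoh_K [IsNoetherianRing A] [IsLocallyNoetherian (S.X 0)] (M : AdicMod S)
    (hM : ∀ k, Coh.IsCoh (M.F k)) (k : ℕ) : Coh.IsCoh (M.K k) :=
  have := S.isLocallyNoetherian (k + 1)
  isCoh_kernel (M.tr k) (hM (k + 1)) (isCoh_push_finite (S.i k) (hM k)).1

theorem AdicMod.secEG_T [IsNoetherianRing A] [IsLocallyNoetherian (S.X 0)] (M : AdicMod S)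
    (hM : ∀ k, Coh.IsCoh (M.F k)) {r : ℕ} {a : Fin r → A} (ha : ∀ i, a i ∈ J)
    (hJ : Submodule.span A (Set.range a) = J) : SecEG M.N fun i k => M.T k (ha i) := by
  intro U hU
  refine ⟨0, fun k _ x => ?_⟩
  let F : Fin r → (S.X 0).Modules := fun _ => M.N k
  let E : (⨁ F) ⟶ M.N (k + 1) := biproduct.desc fun i => M.T k (ha i)
  have hN : ∀ m, Coh.IsCoh (M.N m) := fun m =>
    isCoh_pullback_of_killed (S.j (m + 1)) (S.killed_j _ (M.killedBy_K m)) (M.isCoh_K hM m)
  have : Epi E := M.epi_sum_T ha hJ k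
  have := (isCoh_biproduct F fun _ => hN k).1
  have := (hN (k + 1)).1
  let Q : ShortComplex (S.X 0).Modules := ShortComplex.mk (kernel.ι E) E (kernel.condition E)
  have hQ : Q.ShortExact := { exact := ShortComplex.exact_kernel E }
  have : Coh.IsQCoh Q.X₁ := isQCoh_kernel E
  obtain ⟨y, rfl⟩ := sections_surjective hQ hU x
  refine ⟨fun i => (biproduct.π F i).app U y, ?_⟩
  show E.app U y = _
  conv_lhs => rw [← biproduct_sections_total F U y]
  rw [map_sum]
  refine Finset.sum_congr rfl fun i _ => ?_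
  exact congrArg (fun ψ : F i ⟶ M.N (k + 1) => ψ.app U ((biproduct.π F i).app U y))
    (biproduct.ι_desc (fun i => M.T k (ha i)) i)

theorem AdicMod.trSeq_shortExact (M : AdicMod S) (k : ℕ) :
    (ShortComplex.mk (kernel.ι (M.tr k)) (M.tr k) (kernel.condition _)).ShortExact :=
  { exact := ShortComplex.exact_kernel (M.tr k) }

theorem AdicMod.tensor_kerElem_jointly_epi [IsNoetherianRing A] (M : AdicMod S) (k : ℕ)
    {P Z : (S.X (k + 1)).Modules} (hP : PicF.IsInvertible P) (g : CohB1.tensorMod (M.K k) P ⟶ Z)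
    (h : ∀ c, tensorMap (M.kerElem k c) (𝟙 P) ≫ g = 0) : g = 0 := by
  obtain ⟨r, b, hb⟩ := Submodule.fg_iff_exists_fin_generating_family.1
    (IsNoetherian.noetherian (J ^ (k + 1)))
  let c : Fin r → (J ^ (k + 1) : Ideal A) := fun i => ⟨b i, hb.le (Submodule.subset_span ⟨i, rfl⟩)⟩
  let F : Fin r → (S.X (k + 1)).Modules := fun _ => M.F (k + 1)
  let E : (⨁ F) ⟶ M.K k := biproduct.desc fun i => M.kerElem k (c i)
  have hE : Epi E := by
    refine Preadditive.epi_of_isZero_cokernel E ((IsZero.iff_id_eq_zero _).2 ?_)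
    rw [← cancel_epi (cokernel.π E), Category.comp_id, comp_zero]
    refine M.kerElem_jointly_epi k _ fun d => ?_
    obtain ⟨t, ht⟩ := (Submodule.mem_span_range_iff_exists_fun A).1 (hb.ge d.2)
    have e : M.kerElem k d = ∑ i, Formal.smulMod A (M.F (k + 1)) (t i) ≫ M.kerElem k (c i) := by
      rw [← cancel_mono (kernel.ι (M.tr k)), Preadditive.sum_comp, M.kerElem_ι]
      simp only [Category.assoc, M.kerElem_ι, c, ← smulMod_mul]
      rw [← ht]
      let sm : A →+ (M.F (k + 1) ⟶ M.F (k + 1)) :=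
        AddMonoidHom.mk' (Formal.smulMod A (M.F (k + 1))) (smulMod_add _)
      show sm _ = ∑ i, sm _
      rw [map_sum]
      exact Finset.sum_congr rfl fun i _ => congrArg sm (mul_comm _ _)
    rw [e, Preadditive.sum_comp]
    refine Finset.sum_eq_zero fun i _ => ?_
    rw [Category.assoc, ← biproduct.ι_desc (fun i => M.kerElem k (c i)) i, Category.assoc,
      cokernel.condition, comp_zero, comp_zero]
  let Q : ShortComplex (S.X (k + 1)).Modules := ShortComplex.mk (kernel.ι E) E (kernel.condition E)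
  have hQ : Q.ShortExact := { exact := ShortComplex.exact_kernel E }
  have hepi : Epi (tensorMap E (𝟙 P)) := (EulerLib.twistSeq_shortExact hP hQ).epi_g
  rw [← cancel_epi (tensorMap E (𝟙 P)), comp_zero]
  refine AmpleLib.hom_ext fun U x y => ?_
  let Φ : Γ(⨁ F, U) →+ Γ(Z, U) :=
    AddMonoidHom.mk' (fun x => g.app U ((tensorMap E (𝟙 P)).app U (tmul x y))) fun x x' => by
      rw [tmul_add_left, map_add, map_add]
  show Φ x = 0
  rw [← biproduct_sections_total F U x, map_sum]
  refine Finset.sum_eq_zero fun i _ => ?_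
  show g.app U ((tensorMap E (𝟙 P)).app U (tmul _ y)) = 0
  rw [tensorMap_tmul]
  refine Eq.trans (congrArg (fun z => g.app U (tmul z _))
    (congrArg (fun ψ : F i ⟶ M.K k => ψ.app U ((biproduct.π F i).app U x))
      (biproduct.ι_desc (fun i => M.kerElem k (c i)) i))) ?_
  refine Eq.trans (congrArg (g.app U) (tensorMap_tmul _ _ _ _).symm) ?_
  exact congrArg (fun ψ : CohB1.tensorMod (M.F (k + 1)) P ⟶ Z => ψ.app U
    (tmul ((biproduct.π F i).app U x) y)) (h (c i))

variable [IsNoetherianRing A] [IsProper (S.s 0)] (L M : AdicMod S)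
  (hLi : ∀ k, PicF.IsInvertible (L.F k)) (ha : CohB1.IsAmple (L.F 0)) (hM : ∀ k, Coh.IsCoh (M.F k))
include hLi ha hM

/-- Uniform vanishing on all levels and on the graded pieces. -/
theorem AdicMod.exists_vanishesFrom : ∃ n₀, ∀ k, VanishesFrom (L.F k) n₀ (M.F k) ∧
    VanishesFrom (L.F (k + 1)) n₀ (M.K k) := by
  have : IsLocallyNoetherian (S.X 0) := LocallyOfFiniteType.isLocallyNoetherian (S.s 0)
  have : CompactSpace (S.X 0) := QuasiCompact.compactSpace_of_compactSpace (S.s 0)
  have : IsProper ((S.X 0) ↘ Spec (CommRingCat.of A)) := inferInstanceAs (IsProper (S.s 0))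
  obtain ⟨r, a, hJ⟩ := Submodule.fg_iff_exists_fin_generating_family.1 (IsNoetherian.noetherian J)
  have hai : ∀ i, a i ∈ J := fun i => hJ.le (Submodule.subset_span ⟨i, rfl⟩)
  have hN : ∀ m, Coh.IsCoh (M.N m) := fun m =>
    isCoh_pullback_of_killed (S.j (m + 1)) (S.killed_j _ (M.killedBy_K m)) (M.isCoh_K hM m)
  obtain ⟨n₁, h₁⟩ := exists_uniform_vanishesFrom ha.1 (exists_vanishesFrom_of_ample A ha) r M.N hN
    (fun i k => M.T k (hai i)) (fun i j k => M.T_comm k (hai i) (hai j)) (M.secEG_T hM hai hJ)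
  obtain ⟨n₂, h₂⟩ := exists_vanishesFrom_of_ample A ha (M.F 0) (hM 0)
  refine ⟨max n₁ n₂, fun k => ?_⟩
  have hK : ∀ k, VanishesFrom (L.F (k + 1)) (max n₁ n₂) (M.K k) := fun k =>
    vanishesFrom_of_iso (clIso (S.j (k + 1)) (S.killed_j _ (M.killedBy_K k))).symm
      (vanishesFrom_push (S.j (k + 1)) (hLi (k + 1)) ha.1 (L.θ (k + 1)) (hN k)
        ((h₁ k).mono (le_max_left _ _)))
  refine ⟨?_, hK k⟩
  induction k with
  | zero => exact h₂.mono (le_max_right _ _)
  | succ k ih =>
    intro n hn p hp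
    have := S.isLocallyNoetherian k
    have hpush := vanishesFrom_push (S.i k) (hLi (k + 1)) (hLi k) (L.ψ k) (hM k) ih n hn p hp
    exact subsingleton_H'_X₂ (EulerLib.twistSeq_shortExact (isInvertible_tensorPow (hLi (k + 1)) n)
      (M.trSeq_shortExact k)) p ⊤ (hK k n hn p hp) hpush

/-- Uniform generation on all levels. -/
theorem AdicMod.exists_globallyGenerated : ∃ n₀, ∀ n, n₀ ≤ n → ∀ k,
    Curv2.IsGloballyGenerated (CohB1.tensorMod (M.F k) (CohB1.tensorPow (L.F k) n)) := by
  have : IsLocallyNoetherian (S.X 0) := LocallyOfFiniteType.isLocallyNoetherian (S.s 0)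
  obtain ⟨n₁, h₁⟩ := AdicMod.exists_vanishesFrom L M hLi ha hM
  obtain ⟨n₂, h₂⟩ := eventually_globallyGenerated ha (M.F 0) (hM 0)
  refine ⟨max n₁ n₂, fun n hn k => ?_⟩
  induction k with
  | zero => exact h₂ n (le_of_max_le_right hn)
  | succ k ih =>
    let P := CohB1.tensorPow (L.F (k + 1)) n
    have hSeq := EulerLib.twistSeq_shortExact (isInvertible_tensorPow (hLi (k + 1)) n) (M.trSeq_shortExact k)
    let e := pushTwistIso (S.i k) (hLi (k + 1)) (L.ψ k) (M.F k) n
    let h : CohB1.tensorMod (M.F (k + 1)) P ⟶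
        (Coh.push (S.i k)).obj (CohB1.tensorMod (M.F k) (CohB1.tensorPow (L.F k) n)) :=
      tensorMap (M.tr k) (𝟙 P) ≫ e.inv
    have hs : Function.Surjective (h.app (⊤ : (S.X (k + 1)).Opens)) := by
      refine Function.Surjective.comp (g := e.inv.app ⊤) (f := (tensorMap (M.tr k) (𝟙 P)).app ⊤)
        (ConcreteCategory.bijective_of_isIso (e.inv.app ⊤)).2 ?_
      exact sections_top_surjective_of_subsingleton hSeq ((h₁ k).2 n (le_of_max_le_left hn) 1 one_pos)
    have hkill : ∀ (Q : (S.X (k + 1)).Modules)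
        (q : (Coh.push (S.i k)).obj (CohB1.tensorMod (M.F k) (CohB1.tensorPow (L.F k) n)) ⟶ Q), Epi q →
        ClSub.KilledByIdeal (S.i k).ker Q := fun Q q _ => S.killed_i k fun c hc => by
      rw [← cancel_epi q, comp_zero, ← smulMod_natural, ← S.push_smul, S.killedBy k _ c hc,
        Functor.map_zero, zero_comp]
    obtain ⟨I, f, hf⟩ := exists_free_comp_epi (S.i k) ih hkill h hs
    refine ⟨I, f, ?_⟩
    refine Preadditive.epi_of_isZero_cokernel f ((IsZero.iff_id_eq_zero _).2 ?_)
    let π := cokernel.π f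
    -- what kills all multiples by `J^(k+1)` is zero
    have hnak : ∀ {Q : (S.X (k + 1)).Modules} (q : cokernel f ⟶ Q),
        (∀ c ∈ J ^ (k + 1), Formal.smulMod A (cokernel f) c ≫ q = 0) → q = 0 := by
      intro Q q hq
      have hker : ∀ c, tensorMap (M.kerElem k c) (𝟙 P) ≫ tensorMap (kernel.ι (M.tr k)) (𝟙 P) ≫
          π ≫ q = 0 := fun c => by
        have e1 : tensorMap (M.kerElem k c) (𝟙 P) ≫ tensorMap (kernel.ι (M.tr k)) (𝟙 P) =
            Formal.smulMod A (CohB1.tensorMod (M.F (k + 1)) P) (c : A) := by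
          refine AmpleLib.hom_ext fun U x y => ?_
          refine Eq.trans (ConcreteCategory.comp_apply _ _ _) ?_
          erw [tensorMap_tmul, tensorMap_tmul]
          rw [smulMod_app', ← tmul_smul_left]
          refine congrArg (fun z => tmul z y) ?_
          exact (congrArg (fun ψ : M.F (k + 1) ⟶ M.F (k + 1) => ψ.app U x) (M.kerElem_ι k c)).trans
            (smulMod_app' _ _ _ _)
        rw [← Category.assoc, e1, ← Category.assoc, smulMod_natural, Category.assoc, hq _ c.2,
          comp_zero]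
      have hι : tensorMap (kernel.ι (M.tr k)) (𝟙 P) ≫ π ≫ q = 0 :=
        M.tensor_kerElem_jointly_epi k (isInvertible_tensorPow (hLi (k + 1)) n) _ hker
      have := hSeq.epi_g
      obtain ⟨q', hq'⟩ : ∃ q', _ = π ≫ q := ⟨_, hSeq.exact.g_desc (π ≫ q) hι⟩
      have hh : h ≫ (e.hom ≫ q') = π ≫ q := by
        refine Eq.trans ?_ hq'
        simp only [h, Category.assoc, Iso.inv_hom_id_assoc]
        rfl
      have hq0 : e.hom ≫ q' = 0 := by
        rw [← cancel_epi (f ≫ h), comp_zero, Category.assoc, hh, cokernel.condition_assoc, zero_comp]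
      rw [← cancel_epi π, comp_zero, ← hh, hq0, comp_zero]
    refine hnak _ fun c hc => ?_
    rw [Category.comp_id]
    refine hnak _ fun d hd => ?_
    rw [← smulMod_mul]
    exact S.killedBy (k + 1) _ _ (Ideal.pow_le_pow_right (by omega : k + 1 + 1 ≤ k + 1 + (k + 1))
      (by rw [pow_add]; exact Ideal.mul_mem_mul hc hd))

end System

end Groth.Agent.Coherent.Serre
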