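import Groth.Agent.Coherent.Serre.AtPoint
import Groth.Agent.Coherent.CohBC.SectionsBC
import Groth.Agent.Coherent.CohBC.Geom

/-!
# Ampleness spreads out from a local ring of the base
-/

set_option autoImplicit false
set_option backward.isDefEq.respectTransparency false

universe u

open CategoryTheory CategoryTheory.Limits AlgebraicGeometry Opposite TopologicalSpace TensorProduct
open Groth.Agent.Coherent Groth.Agent.PicLib Groth.Agent.AmpleLib Groth.Agent.Coherent.CohBC Function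

namespace Groth.Agent.Coherent.Serre

variable {A : Type u} [CommRing A] {X : Scheme.{u}} [X.Over (Spec (CommRingCat.of A))]
  [QuasiCompact (X ↘ Spec (CommRingCat.of A))] [IsSeparated (X ↘ Spec (CommRingCat.of A))]
  {B : Type u} [CommRing B] [Algebra A B] {X' : Scheme.{u}} [X'.Over (Spec (CommRingCat.of B))]
  {g : X' ⟶ X}
  (h : IsPullback g (X' ↘ Spec (CommRingCat.of B)) (X ↘ Spec (CommRingCat.of A))
    (Spec.map (CommRingCat.ofHom (algebraMap A B))))

include h

omit h in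
theorem exists_pullSec_eq_smul {A : Type u} [CommRing A] {X : Scheme.{u}}
    [X.Over (Spec (CommRingCat.of A))] [QuasiCompact (X ↘ Spec (CommRingCat.of A))]
    [IsSeparated (X ↘ Spec (CommRingCat.of A))] {B : Type u} [CommRing B] (φ : A →+* B)
    {X' : Scheme.{u}} [X'.Over (Spec (CommRingCat.of B))] {g : X' ⟶ X}
    (h' : IsPullback g (X' ↘ Spec (CommRingCat.of B)) (X ↘ Spec (CommRingCat.of A))
      (Spec.map (CommRingCat.ofHom φ)))
    (M : Submonoid A) (hM : @IsLocalization A _ M B _ φ.toAlgebra) (F : X.Modules)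
    [Coh.IsQCoh F] (σ : Γ((Scheme.Modules.pullback g).obj F, g ⁻¹ᵁ ⊤)) :
    ∃ (t : A) (b : Γ(F, ⊤)), t ∈ M ∧ pullSec g b = φ t • σ := by
  classical
  let _ : Algebra A B := φ.toAlgebra
  have := hM
  obtain ⟨ι, _, W, hcov, hW⟩ := exists_affine_cover A X
  let F' := (Scheme.Modules.pullback g).obj F
  let W' := fun i => g ⁻¹ᵁ W i
  let Φ := cochainBC φ g h' W F 0
  have hΦ : Bijective Φ := bijective_cochainBC φ g h' W hW F 0
  have hΦ1 := (bijective_cochainBC φ g h' W hW F 1).1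
  have hcov' : ⨆ i, W' i = ⊤ := by
    rw [← Scheme.Hom.preimage_iSup, hcov, Scheme.Hom.preimage_top]
  have hcomm : ∀ x, cxD B W' F' 0 (Φ ((1 : B) ⊗ₜ[A] x)) =
      cochainBC φ g h' W F 1 ((1 : B) ⊗ₜ[A] cxD A W F 0 x) := fun x => by
    have e := ConcreteCategory.congr_hom ((cxBCIso φ g h' W hW F).hom.comm 0 1) ((1 : B) ⊗ₜ[A] x)
    rw [show ((cxA B W' F').d 0 1) = ModuleCat.ofHom (cxD B W' F' 0) from cxA_d B W' F' 0] at e
    refine e.trans (congrArg (cochainBC φ g h' W F 1) ?_)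
    show LinearMap.baseChange B ((cxA A W F).d 0 1).hom ((1 : B) ⊗ₜ[A] x) = _
    rw [LinearMap.baseChange_tmul]
    exact congrArg ((1 : B) ⊗ₜ[A] ·)
      (LinearMap.congr_fun (congrArg ModuleCat.Hom.hom (cxA_d A W F 0)) x)
  obtain ⟨z, hz⟩ := hΦ.2 fun a => resM F' le_top σ
  -- write `z` with one denominator
  have hloc₀ : IsLocalizedModule M (TensorProduct.mk A B (∀ a : Fin 1 → ι, Γ(F, cinter W a)) 1) :=
    (isLocalizedModule_iff_isBaseChange M B _).2 (TensorProduct.isBaseChange _ _ _)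
  obtain ⟨⟨x, t⟩, hxt⟩ := hloc₀.surj z
  have hxt' : φ t.1 • z = (1 : B) ⊗ₜ[A] x := (algebraMap_smul B t.1 z).trans hxt
  have h0 : (1 : B) ⊗ₜ[A] cxD A W F 0 x = 0 := by
    refine hΦ1 ?_
    rw [← hcomm, ← hxt', map_smul, hz, map_zero, map_smul]
    have h0 : cxD B W' F' 0 (fun a => resM F' le_top σ) = 0 := cxD_restrict W' F' σ
    exact (congrArg (φ t.1 • ·) h0).trans (smul_zero _)
  have hloc₁ : IsLocalizedModule M (TensorProduct.mk A B (∀ a : Fin 2 → ι, Γ(F, cinter W a)) 1) :=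
    (isLocalizedModule_iff_isBaseChange M B _).2 (TensorProduct.isBaseChange _ _ _)
  obtain ⟨t', ht'⟩ := (IsLocalizedModule.eq_zero_iff M
    (TensorProduct.mk A B (∀ a : Fin 2 → ι, Γ(F, cinter W a)) 1)).1 h0
  have hd : cxD A W F 0 (t'.1 • x) = 0 := by rw [map_smul]; exact ht'
  obtain ⟨b, hb⟩ := exists_glue_cocycle W F hcov (t'.1 • x) hd
  refine ⟨t'.1 * t.1, b, M.mul_mem t'.2 t.2, eq_of_restrict W' F' hcov' _ _ fun a => ?_⟩
  have hglob : Φ ((1 : B) ⊗ₜ[A] (fun a => resM F le_top b)) a =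
      resM F' (le_top (a := cinter W' a)) (pullSec g b) := by
    refine Eq.trans (secBCTo_tmul φ g h' W F a 1 (resM F le_top b)) ?_
    rw [one_smul, ← resM_pullSec g (le_top (a := cinter W a)) b, resM_resM]
    rfl
  refine hglob.symm.trans ?_
  rw [funext hb, TensorProduct.tmul_smul, ← hxt', ← algebraMap_smul B t'.1, smul_smul,
    map_smul, Pi.smul_apply, hz]
  exact (congrArg (· • (resM F' (le_top (a := cinter W' a)) σ)) (map_mul φ t'.1 t.1).symm).trans
    (resM_smulA F' le_top (φ (t'.1 * t.1)) σ).symm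

/-- A section over a localisation of the base, times a denominator, is a global section. -/
theorem exists_pullSec_eq_algebraMap_smul (M : Submonoid A) [hM : IsLocalization M B] (F : X.Modules)
    [Coh.IsQCoh F] (σ : Γ((Scheme.Modules.pullback g).obj F, g ⁻¹ᵁ ⊤)) :
    ∃ (t : A) (b : Γ(F, ⊤)), t ∈ M ∧ pullSec g b = algebraMap A B t • σ :=
  exists_pullSec_eq_smul (algebraMap A B) h M
    (by convert hM; exact Algebra.algebra_ext _ _ fun _ => rfl) F σ

omit [QuasiCompact (X ↘ Spec (CommRingCat.of A))] [IsSeparated (X ↘ Spec (CommRingCat.of A))] in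
/-- Points over the local ring. -/
theorem exists_preimage_of_mem_range (x : X)
    (hx : (X ↘ Spec (CommRingCat.of A)) x ∈ Set.range (Spec.map (CommRingCat.ofHom (algebraMap A B)))) :
    x ∈ Set.range g := by
  obtain ⟨w, hw⟩ := hx
  obtain ⟨z, hz, -⟩ := Scheme.Pullback.exists_preimage_pullback x w hw.symm
  refine ⟨h.isoPullback.inv z, ?_⟩
  rw [← Scheme.Hom.comp_apply, h.isoPullback_inv_fst]
  exact hz

end Groth.Agent.Coherent.Serre

namespace Groth.Agent.Coherent.Serre

variable {A : Type u} [CommRing A] {X : Scheme.{u}} [X.Over (Spec (CommRingCat.of A))]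

theorem preimage_specBasicOpen_over (a : A) :
    (X ↘ Spec (CommRingCat.of A)) ⁻¹ᵁ (PrimeSpectrum.basicOpen a : (Spec (CommRingCat.of A)).Opens) =
      X.basicOpen (baseHom A X a) := by
  refine Eq.trans ?_ (Scheme.preimage_basicOpen (X ↘ Spec (CommRingCat.of A))
    ((Scheme.ΓSpecIso (CommRingCat.of A)).inv a))
  rw [basicOpen_eq_of_affine]

/-- A closed set of the source missing the points over generizations of `p` misses the preimage of a
basic neighbourhood of `p`. -/
theorem exists_basicOpen_disjoint [IsNoetherianRing A]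
    [LocallyOfFiniteType (X ↘ Spec (CommRingCat.of A))] [QuasiCompact (X ↘ Spec (CommRingCat.of A))]
    (p : PrimeSpectrum A) (O U : X.Opens)
    (hC : ∀ x ∈ O, ((X ↘ Spec (CommRingCat.of A)) x).asIdeal ≤ p.asIdeal → x ∈ U) :
    ∃ s : A, s ∉ p.asIdeal ∧ X.basicOpen (baseHom A X s) ⊓ O ≤ U := by
  classical
  let q := X ↘ Spec (CommRingCat.of A)
  have : IsLocallyNoetherian X := LocallyOfFiniteType.isLocallyNoetherian q
  have : CompactSpace X := QuasiCompact.compactSpace_of_compactSpace q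
  have : IsNoetherian X := { }
  let C : Closeds X := ⟨closure ((O : Set X) \ U), isClosed_closure⟩
  obtain ⟨S, hS, hirr, hC'⟩ := NoetherianSpace.exists_finite_set_closeds_irreducible C
  choose η hη using fun T : S => (⟨(hirr T.1 T.2).genericPoint, (hirr T.1 T.2).closure_genericPoint T.1.2⟩ :
    ∃ e, closure {e} = (T.1 : Set X))
  have : Fintype S := hS.fintype
  have hmem : ∀ T : S, (∃ z, z ∈ (T.1 : Set X) ∧ z ∈ O ∧ z ∉ U) →
      ¬ (q (η T)).asIdeal ≤ p.asIdeal := by
    rintro T ⟨z, hzT, hzO, hzU⟩ hle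
    have hsp : η T ⤳ z := specializes_iff_mem_closure.2 ((hη T).ge hzT)
    have hU : η T ∉ U := fun hU => by
      have hTC : η T ∈ C := (hC' ▸ le_sSup T.2 : T.1 ≤ C) ((hη T).le (subset_closure rfl))
      have hzO' : η T ∈ O := hsp.mem_open O.2 hzO
      obtain ⟨w, hwU, hwO, hwU'⟩ := mem_closure_iff.1 hTC U U.2 hU
      exact hwU' hwU
    exact hU (hC (η T) (hsp.mem_open O.2 hzO) hle)
  let T' : Finset S := Finset.univ.filter fun T => ¬ (q (η T)).asIdeal ≤ p.asIdeal
  choose a ha using fun T : T' => Set.not_subset.1 (Finset.mem_filter.1 T.2).2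
  refine ⟨∏ T : T', a T, fun hp => ?_, ?_⟩
  · obtain ⟨T, -, hT⟩ := (Ideal.IsPrime.prod_mem_iff (hp := p.isPrime)).1 hp
    exact (ha T).2 hT
  rintro z ⟨hzs, hzO⟩
  by_contra hzU
  have hcl : z ∈ C := subset_closure ⟨hzO, hzU⟩
  have hcov : (C : Set X) ⊆ ⋃ T ∈ S, (T : Set X) := by
    have hcl' : IsClosed (⋃ T ∈ S, (T : Set X)) := hS.isClosed_biUnion fun T _ => T.2
    have : sSup S ≤ (⟨_, hcl'⟩ : Closeds X) :=
      sSup_le fun T hT w hw => Set.mem_iUnion₂.2 ⟨T, hT, hw⟩
    exact hC' ▸ this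
  obtain ⟨T, hT, hzT⟩ := Set.mem_iUnion₂.1 (hcov hcl)
  let T₀ : T' := ⟨⟨T, hT⟩, Finset.mem_filter.2 ⟨Finset.mem_univ _, hmem ⟨T, hT⟩ ⟨z, hzT, hzO, hzU⟩⟩⟩
  rw [← preimage_specBasicOpen_over] at hzs
  have hspec : q (η ⟨T, hT⟩) ⤳ q z :=
    (specializes_iff_mem_closure.2 ((hη ⟨T, hT⟩).ge hzT)).map q.continuous
  have hle : (q (η ⟨T, hT⟩)).asIdeal ≤ (q z).asIdeal := (PrimeSpectrum.le_iff_specializes _ _).2 hspec
  exact hzs ((Finset.prod_dvd_prod_of_subset {T₀} Finset.univ a (Finset.subset_univ _)).elim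
    fun c hc => by
      rw [Finset.prod_singleton] at hc
      rw [hc]
      exact Ideal.mul_mem_right _ _ (hle (ha T₀).1))

/-- Ampleness over a local ring of the base spreads to a neighbourhood. -/
theorem exists_isAmple_basicOpen [IsNoetherianRing A] [IsProper (X ↘ Spec (CommRingCat.of A))]
    (p : PrimeSpectrum A) {B : Type u} [CommRing B] [Algebra A B]
    [IsLocalization p.asIdeal.primeCompl B] {X' : Scheme.{u}} [X'.Over (Spec (CommRingCat.of B))]
    {g : X' ⟶ X}
    (h : IsPullback g (X' ↘ Spec (CommRingCat.of B)) (X ↘ Spec (CommRingCat.of A))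
      (Spec.map (CommRingCat.ofHom (algebraMap A B))))
    {L : X.Modules} (hL : PicF.IsInvertible L)
    (hA : CohB1.IsAmple ((Scheme.Modules.pullback g).obj L)) :
    ∃ s : A, s ∉ p.asIdeal ∧ CohB1.IsAmple
      ((Scheme.Modules.pullback (X.basicOpen (baseHom A X s)).ι).obj L) := by
  classical
  let q := X ↘ Spec (CommRingCat.of A)
  have : IsLocallyNoetherian X := LocallyOfFiniteType.isLocallyNoetherian q
  have : CompactSpace X := QuasiCompact.compactSpace_of_compactSpace q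
  have hle : ∀ x : X, (q x).asIdeal ≤ p.asIdeal → x ∈ Set.range g := fun x hx => by
    refine exists_preimage_of_mem_range h x ?_
    have hd : Disjoint (p.asIdeal.primeCompl : Set A) ((q x).asIdeal : Set A) :=
      Set.disjoint_left.2 fun a ha ha' => ha (hx ha')
    exact ⟨⟨(q x).asIdeal.map (algebraMap A B),
      IsLocalization.isPrime_of_isPrime_disjoint _ B _ (q x).isPrime hd⟩,
      PrimeSpectrum.ext (IsLocalization.under_map_of_isPrime_disjoint _ B (q x).isPrime hd)⟩
  -- sections around the points over `p`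
  have key : ∀ z : X, q z = p → ∃ (m : ℕ) (_ : 0 < m) (c : Γ(CohB1.tensorPow L m, ⊤)) (s : A),
      s ∉ p.asIdeal ∧ z ∈ glocus _ c ⊓ X.basicOpen (baseHom A X s) ∧
        IsAffineOpen (glocus _ c ⊓ X.basicOpen (baseHom A X s)) := by
    intro z hz
    obtain ⟨U₁, hU, hzU, -⟩ := Opens.isBasis_iff_nbhd.mp X.isBasis_affineOpens (Opens.mem_top z)
    let U : X.Opens := U₁
    obtain ⟨z', rfl⟩ := hle z (hz ▸ le_rfl)
    obtain ⟨m, hm, c', hzc, hcU, -⟩ := affGlocus_of_mem hA (U := g ⁻¹ᵁ U) (x := z') hzU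
    obtain ⟨e, -⟩ := exists_pullPowIso g hL m
    let σ : Γ((Scheme.Modules.pullback g).obj (CohB1.tensorPow L m), g ⁻¹ᵁ ⊤) := e.inv.app ⊤ c'
    have hP := isInvertible_tensorPow hL m
    have := isQCoh_of_isInvertible hP
    obtain ⟨t, c, ht, hc⟩ := exists_pullSec_eq_algebraMap_smul h p.asIdeal.primeCompl
      (CohB1.tensorPow L m) σ
    have hgc : g ⁻¹ᵁ glocus _ c = glocus _ c' := by
      refine ((glocus_pullSec g hP c).symm.trans (congrArg (glocus ((Scheme.Modules.pullback g).obj (CohB1.tensorPow L m))) hc)).trans ?_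
      let σ' : Γ((Scheme.Modules.pullback g).obj (CohB1.tensorPow L m), (⊤ : X'.Opens)) := σ
      have hsm : algebraMap A B t • σ = baseHom B X' (algebraMap A B t) • σ' := by
        refine congrArg (fun r : Γ(X', ⊤) => r • σ') ?_
        exact congrFun (congrArg DFunLike.coe (congrArg CommRingCat.Hom.hom (X'.presheaf.map_id (op ⊤)))) _
      rw [hsm]
      have h1 : IsUnit (baseHom B X' (algebraMap A B t)) :=
        (IsLocalization.map_units B (⟨t, ht⟩ : p.asIdeal.primeCompl)).map _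
      refine (glocus_smul_eq (PicLoc.isInvertible_pullback g hP)
        (baseHom B X' (algebraMap A B t)) σ').trans ?_
      rw [Scheme.basicOpen_of_isUnit _ h1, inf_top_eq]
      exact glocus_map_iso e.symm c'
    obtain ⟨s, hs, hsU⟩ := exists_basicOpen_disjoint p (glocus _ c) U fun x hx hxp => by
      obtain ⟨w, rfl⟩ := hle x hxp
      exact hcU (hgc.le hx)
    refine ⟨m, hm, c, s, hs, ⟨hgc.ge hzc, ?_⟩, ?_⟩
    · rw [← preimage_specBasicOpen_over]
      show s ∉ (q (g z')).asIdeal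
      rw [hz]; exact hs
    · have hR : glocus _ c ⊓ X.basicOpen (baseHom A X s) =
          glocus _ (baseHom A X s • c) := (glocus_smul_eq hP _ _).symm
      have : glocus _ (baseHom A X s • c) ⊓ U = glocus _ (baseHom A X s • c) :=
        inf_eq_left.2 (by rw [← hR, inf_comm]; exact hsU)
      rw [hR, ← this]
      exact isAffineOpen_glocus_inf hP _ hU
  choose m hm c s hs hzc haff using key
  -- finitely many of them
  let O : {z : X // q z = p} → X.Opens := fun z => glocus _ (c z.1 z.2) ⊓ X.basicOpen (baseHom A X (s z.1 z.2))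
  obtain ⟨t, ht⟩ := (q.isCompact_preimage_singleton p).elim_finite_subcover (fun z => (O z : Set X))
    (fun z => (O z).2) fun z hz => Set.mem_iUnion.2 ⟨⟨z, hz⟩, hzc z hz⟩
  let T : Set X := (⋃ z ∈ t, (O z : Set X))ᶜ
  have hT : IsClosed T := (isOpen_biUnion fun z _ => (O z).2).isClosed_compl
  have hqT : IsClosed (q '' T) := q.isClosedMap T hT
  have hpT : p ∉ q '' T := fun ⟨x, hx, hxp⟩ => hx (ht hxp)
  obtain ⟨_, ⟨s₀, rfl⟩, hp₀, hs₀⟩ := PrimeSpectrum.isTopologicalBasis_basic_opens.exists_subset_of_mem_open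
    (show p ∈ (q '' T)ᶜ from hpT) hqT.isOpen_compl
  refine ⟨s₀, hp₀, ?_⟩
  let P := X.basicOpen (baseHom A X s₀)
  have hPc : CompactSpace P.toScheme :=
    isCompact_iff_compactSpace.1 (isCompact_basicOpen X (U := ⊤) isCompact_univ _)
  refine isAmple_iff_affGlocus.2 ⟨PicLoc.isInvertible_pullback _ hL, hPc, fun w => ?_⟩
  have hw : P.ι w ∈ ⋃ z ∈ t, (O z : Set X) := by
    by_contra hcon
    have hwP : P.ι w ∈ X.basicOpen (baseHom A X s₀) := w.2
    rw [← preimage_specBasicOpen_over] at hwP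
    exact hs₀ hwP ⟨P.ι w, hcon, rfl⟩
  obtain ⟨z, hzt, hwz⟩ := Set.mem_iUnion₂.1 hw
  have hP := isInvertible_tensorPow hL (m z.1 z.2)
  let d : Γ(CohB1.tensorPow L (m z.1 z.2), ⊤) :=
    (baseHom A X (s z.1 z.2) * baseHom A X s₀) • c z.1 z.2
  have hd : glocus _ d = O z ⊓ P := by
    rw [glocus_smul_eq hP, Scheme.basicOpen_mul, ← inf_assoc]
  obtain ⟨e, -⟩ := exists_pullPowIso P.ι hL (m z.1 z.2)
  refine ⟨m z.1 z.2, hm z.1 z.2, e.hom.app ⊤ (pullSec P.ι d), ?_, le_top, ?_⟩
  · rw [glocus_map_iso]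
    exact (glocus_pullSec P.ι hP d).ge (hd.ge ⟨hwz, w.2⟩)
  · have hgl : glocus _ (pullSec P.ι d) = P.ι ⁻¹ᵁ glocus _ d := glocus_pullSec P.ι hP d
    rw [glocus_map_iso, hgl, hd, ← P.ι.isAffineOpen_iff_of_isOpenImmersion,
      P.ι.image_preimage_eq_opensRange_inf, Scheme.Opens.opensRange_ι]
    have h2 : P ⊓ (O z ⊓ P) = O z ⊓ X.basicOpen (baseHom A X s₀) :=
      le_antisymm inf_le_right (le_inf inf_le_right le_rfl)
    rw [h2]
    have ha : IsAffineOpen (O z) := haff z.1 z.2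
    rw [← Scheme.basicOpen_res X (baseHom A X s₀) (homOfLE (le_top (a := O z))).op]
    exact ha.basicOpen _

end Groth.Agent.Coherent.Serre
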