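import Groth.Agent.AmpleLib.Twist2
import Groth.Agent.EulerLib.Twist

/-!
# Multiplication by a global section
-/

set_option autoImplicit false
set_option backward.isDefEq.respectTransparency false

universe u

open CategoryTheory CategoryTheory.Limits AlgebraicGeometry Opposite TopologicalSpace
open Groth.Agent.Coherent Groth.Agent.PicLib Groth.Agent.AmpleLib

namespace Groth.Agent.Coherent.Serre

variable {X : Scheme.{u}}

/-- `P → P ⊗ M`, tensoring with a global section. -/
noncomputable def rightMul (P : X.Modules) {M : X.Modules} (b : Γ(M, ⊤)) : P ⟶ CohB1.tensorMod P M :=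
  ⟨PresheafOfModules.homMk
    { app := fun W => AddCommGrpCat.ofHom (AddMonoidHom.mk' (fun a : Γ(P, W.unop) => tmul a (resM M le_top b))
        fun a a' => tmul_add_left a a' _)
      naturality := fun W W' g => ConcreteCategory.hom_ext _ _ fun a => by
        rw [show g = (homOfLE (leOfHom g.unop)).op from Subsingleton.elim _ _]
        show tmul (resM P (leOfHom g.unop) a) (resM M le_top b) =
          resM _ (leOfHom g.unop) (tmul a (resM M le_top b))
        rw [resM_tmul, resM_resM] }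
    fun W r a => tmul_smul_left r (show Γ(P, W.unop) from a) _⟩

theorem rightMul_app (P : X.Modules) {M : X.Modules} (b : Γ(M, ⊤)) (U : X.Opens) (a : Γ(P, U)) :
    (rightMul P b).app U a = tmul a (resM M le_top b) := rfl

theorem rightMul_naturality {P Q : X.Modules} (φ : P ⟶ Q) {M : X.Modules} (b : Γ(M, ⊤)) :
    φ ≫ rightMul Q b = rightMul P b ≫ tensorMap φ (𝟙 M) :=
  Scheme.Modules.hom_ext _ _ fun U => ConcreteCategory.hom_ext _ _ fun a => by
    show tmul (φ.app U a) (resM M le_top b) = (tensorMap φ (𝟙 M)).app U (tmul a (resM M le_top b))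
    rw [tensorMap_tmul]
    rfl

/-- Maps out of a triple product agree once they agree on pure tensors. -/
theorem hom_ext₂ {A B C N : X.Modules} (hB : PicF.IsInvertible B)
    {φ ψ : CohB1.tensorMod (CohB1.tensorMod A B) C ⟶ N}
    (h : ∀ (U : X.Opens) (a : Γ(A, U)) (b : Γ(B, U)) (c : Γ(C, U)),
      φ.app U (tmul (tmul a b) c) = ψ.app U (tmul (tmul a b) c)) : φ = ψ :=
  AmpleLib.hom_ext fun U z c => sec_ext N _ _ fun y hy => by
    obtain ⟨W, hyW, g, hg⟩ := exists_isGen hB y
    obtain ⟨x, hx⟩ := (bijective_tmul_gen (M := A) hg (U ⊓ W) inf_le_right).2 (resM _ inf_le_left z)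
    refine ⟨U ⊓ W, inf_le_left, ⟨hy, hyW⟩, ?_⟩
    rw [← app_resM, ← app_resM, resM_tmul, ← hx]
    exact h _ _ _ _

/-- Multiplications by two sections of an invertible module commute. -/
theorem tmul_tmul_comm {P M : X.Modules} (hM : PicF.IsInvertible M) {U : X.Opens} (p : Γ(P, U))
    (a b : Γ(M, U)) : tmul (tmul p a) b = tmul (tmul p b) a := by
  refine sec_ext _ _ _ fun y hy => ?_
  obtain ⟨W, hyW, g, hg⟩ := exists_isGen hM y
  refine ⟨U ⊓ W, inf_le_left, ⟨hy, hyW⟩, ?_⟩
  obtain ⟨c, hc⟩ := (hg (U ⊓ W) inf_le_right).2 (resM M inf_le_left a)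
  obtain ⟨d, hd⟩ := (hg (U ⊓ W) inf_le_right).2 (resM M inf_le_left b)
  rw [resM_tmul, resM_tmul, resM_tmul, resM_tmul, ← hc, ← hd]
  simp only [tmul_smul_right, tmul_smul_left, smul_smul, mul_comm c d]

variable {M : X.Modules} (hM : PicF.IsInvertible M) (s : Γ(M, ⊤))

/-- Multiplication by a section on the twists of `F`. -/
noncomputable def twistMul (F : X.Modules) {M : X.Modules} (s : Γ(M, ⊤)) (n : ℕ) :
    CohB1.tensorMod F (CohB1.tensorPow M n) ⟶ CohB1.tensorMod F (CohB1.tensorPow M (n + 1)) :=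
  tensorMap (𝟙 F) (rightMul (CohB1.tensorPow M n) s)

theorem twistMul_tmul (F : X.Modules) (n : ℕ) (U : X.Opens) (a : Γ(F, U))
    (p : Γ(CohB1.tensorPow M n, U)) :
    (twistMul F s n).app U (tmul a p) = tmul a (tmul p (resM M le_top s)) :=
  tensorMap_tmul _ _ _ _

include hM in
theorem twistMul_comm (F : X.Modules) (t : Γ(M, ⊤)) (n : ℕ) :
    twistMul F s n ≫ twistMul F t (n + 1) = twistMul F t n ≫ twistMul F s (n + 1) :=
  AmpleLib.hom_ext fun U a p => by
    show (twistMul F t (n + 1)).app U ((twistMul F s n).app U (tmul a p)) =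
      (twistMul F s (n + 1)).app U ((twistMul F t n).app U (tmul a p))
    rw [twistMul_tmul, twistMul_tmul, twistMul_tmul, twistMul_tmul]
    exact congrArg (tmul a) (tmul_tmul_comm hM p _ _)

/-- `M^n → M^(n+k)`, multiplying `k` times by `s`. -/
noncomputable def powMulIter (s : Γ(M, ⊤)) (n : ℕ) : ∀ k : ℕ, CohB1.tensorPow M n ⟶ CohB1.tensorPow M (n + k)
  | 0 => 𝟙 _
  | k + 1 => powMulIter s n k ≫ rightMul _ s

/-- `k` multiplications by `s` on the twists of `F`. -/
noncomputable def twistIter (F : X.Modules) (s : Γ(M, ⊤)) (n k : ℕ) :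
    CohB1.tensorMod F (CohB1.tensorPow M n) ⟶ CohB1.tensorMod F (CohB1.tensorPow M (n + k)) :=
  tensorMap (𝟙 F) (powMulIter s n k)

theorem twistIter_zero (F : X.Modules) (n : ℕ) : twistIter F s n 0 = 𝟙 _ :=
  AmpleLib.hom_ext fun U a p => tensorMap_tmul _ _ _ _

theorem twistIter_succ (F : X.Modules) (n k : ℕ) :
    twistIter F s n (k + 1) = twistIter F s n k ≫ twistMul F s (n + k) :=
  AmpleLib.hom_ext fun U a p => by
    show (tensorMap (𝟙 F) (powMulIter s n (k + 1))).app U (tmul a p) =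
      (twistMul F s (n + k)).app U ((tensorMap (𝟙 F) (powMulIter s n k)).app U (tmul a p))
    rw [tensorMap_tmul, tensorMap_tmul]
    exact (twistMul_tmul s F (n + k) U _ _).symm

theorem powMulIter_powSec {W : X.Opens} {g : Γ(M, W)} {c : Γ(X, W)} (hc : c • g = resM M le_top s)
    (n : ℕ) : ∀ k : ℕ, (powMulIter s n k).app W (powSec g n) = c ^ k • powSec g (n + k)
  | 0 => by rw [pow_zero, one_smul]; rfl
  | k + 1 => by
    show tmul ((powMulIter s n k).app W (powSec g n)) (resM M le_top s) = _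
    rw [powMulIter_powSec hc n k, ← hc, tmul_smul_smul, ← pow_succ]
    rfl

include hM in
theorem exists_powIso_mul (n k : ℕ) :
    ∃ e : CohB1.tensorMod (CohB1.tensorPow M n) (CohB1.tensorPow M k) ⟶ CohB1.tensorPow M (n + k),
      (∀ (U : X.Opens) (p : Γ(CohB1.tensorPow M n, U)),
        e.app U (tmul p (resM _ le_top (powSec s k))) = (powMulIter s n k).app U p) ∧
      (∀ (U : X.Opens) (t : Γ(M, U)), e.app U (tmul (powSec t n) (powSec t k)) = powSec t (n + k)) ∧
      IsIso e := by
  obtain ⟨e, he⟩ := exists_powIso hM n k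
  refine ⟨e.hom, fun U p => ?_, he, inferInstance⟩
  have key : rightMul (CohB1.tensorPow M n) (powSec s k) ≫ e.hom = powMulIter s n k := by
    choose W hyW g hg using exists_isGen hM
    refine hom_ext_gen W (top_le_iff.1 fun y _ => Opens.mem_iSup.2 ⟨y, hyW y⟩)
      (fun y => powSec (g y) n) (fun y => isGen_powSec (hg y) n) _ _ fun y => ?_
    obtain ⟨c, hc⟩ := (hg y (W y) le_rfl).2 (resM M le_top s)
    simp only [resM_self] at hc
    show e.hom.app (W y) (tmul (powSec (g y) n) (resM _ le_top (powSec s k))) = _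
    rw [resM_powSec, ← hc, powSec_smul, tmul_smul_right, Scheme.Modules.Hom.app_smul, he,
      powMulIter_powSec s hc]
  exact congrArg (fun ψ : _ ⟶ CohB1.tensorPow M (n + k) => ψ.app U p) key

include hM in
/-- Iterated multiplication through a triple product. -/
theorem exists_shift (F : X.Modules) (n k : ℕ) :
    ∃ γ : CohB1.tensorMod (CohB1.tensorMod F (CohB1.tensorPow M n)) (CohB1.tensorPow M k) ⟶
        CohB1.tensorMod F (CohB1.tensorPow M (n + k)),
      rightMul _ (powSec s k) ≫ γ = twistIter F s n k := by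
  obtain ⟨α, hα⟩ := exists_assocHom F (CohB1.tensorPow M k) (isInvertible_tensorPow hM n)
  obtain ⟨e, he, -⟩ := exists_powIso_mul hM s n k
  refine ⟨α ≫ tensorMap (𝟙 F) e, AmpleLib.hom_ext fun U a p => ?_⟩
  show (tensorMap (𝟙 F) e).app U (α.app U (tmul (tmul a p) (resM _ le_top (powSec s k)))) =
    (tensorMap (𝟙 F) (powMulIter s n k)).app U (tmul a p)
  rw [hα, tensorMap_tmul, tensorMap_tmul, he]

include hM in
/-- The product of two powers, compatibly with multiplication. -/
theorem exists_addShift (k m : ℕ) : ∃ γ : ∀ F : X.Modules,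
      CohB1.tensorMod (CohB1.tensorMod F (CohB1.tensorPow M k)) (CohB1.tensorPow M m) ⟶
        CohB1.tensorMod F (CohB1.tensorPow M (k + m)),
      (∀ {F G : X.Modules} (φ : F ⟶ G),
        tensorMap (tensorMap φ (𝟙 _)) (𝟙 _) ≫ γ G = γ F ≫ tensorMap φ (𝟙 _)) ∧
      ∀ (F : X.Modules) (U : X.Opens) (a : Γ(F, U)),
        (γ F).app U (tmul (tmul a (resM _ le_top (powSec s k))) (resM _ le_top (powSec s m))) =
          tmul a (resM _ le_top (powSec s (k + m))) := by
  choose α hα using fun F : X.Modules =>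
    exists_assocHom F (CohB1.tensorPow M m) (isInvertible_tensorPow hM k)
  obtain ⟨e, -, he, -⟩ := exists_powIso_mul hM s k m
  have hγ : ∀ (F : X.Modules) (U : X.Opens) (a : Γ(F, U)) (b : Γ(CohB1.tensorPow M k, U))
      (c : Γ(CohB1.tensorPow M m, U)),
      (α F ≫ tensorMap (𝟙 F) e).app U (tmul (tmul a b) c) = tmul a (e.app U (tmul b c)) := fun F U a b c => by
    show (tensorMap (𝟙 F) e).app U ((α F).app U (tmul (tmul a b) c)) = _
    rw [hα, tensorMap_tmul]
    rfl
  refine ⟨fun F => α F ≫ tensorMap (𝟙 F) e, fun {F G} φ => hom_ext₂ (isInvertible_tensorPow hM k)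
    fun U a b c => ?_, fun F U a => ?_⟩
  · show (α G ≫ tensorMap (𝟙 G) e).app U
        ((tensorMap (tensorMap φ (𝟙 _)) (𝟙 _)).app U (tmul (tmul a b) c)) =
      (tensorMap φ (𝟙 _)).app U ((α F ≫ tensorMap (𝟙 F) e).app U (tmul (tmul a b) c))
    rw [tensorMap_tmul, tensorMap_tmul, hγ, hγ, tensorMap_tmul]
    rfl
  · rw [hγ, resM_powSec, resM_powSec, resM_powSec, he]

end Groth.Agent.Coherent.Serre
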