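import Groth.Agent.Coherent.FormalIdeal
import Groth.Agent.Coherent.ClosedEquiv
import Groth.Agent.DCat.ClosedPush
import Groth.Agent.FSchLib.IdealSheaf
import Groth.Agent.FSchLib.Systems
import Groth.Prelude.Def_CohB1
import Mathlib.RingTheory.Finiteness.Cardinality
import Mathlib.RingTheory.Noetherian.OfPrime

/-!
# Adic systems of schemes over the thickenings of a closed affine subscheme
-/

set_option autoImplicit false
set_option backward.isDefEq.respectTransparency false

universe u

open CategoryTheory CategoryTheory.Limits AlgebraicGeometry Opposite TopologicalSpace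
open Groth.Agent.Coherent

namespace Groth.Agent.Coherent.Serre

variable {A : Type u} [CommRing A]

/-- The functions coming from `A` on an open. -/
noncomputable abbrev baseFun {X : Scheme.{u}} (s : X ⟶ Spec (CommRingCat.of A)) (V : X.Opens) :
    A →+* Γ(X, V) :=
  (X.presheaf.map (homOfLE (le_top (a := V))).op).hom.comp (Coh.toGlobal s)

/-- A system of thickenings `X k` over `A/J^(k+1)`. -/
structure AdicSys (J : Ideal A) where
  /-- The levels. -/
  X : ℕ → Scheme.{u}
  /-- The transition maps. -/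
  i : ∀ k, X k ⟶ X (k + 1)
  /-- The structure maps. -/
  s : ∀ k, X k ⟶ Spec (CommRingCat.of A)
  hs : ∀ k, i k ≫ s (k + 1) = s k
  ci : ∀ k, IsClosedImmersion (i k)
  nil : ∀ k, ∀ a ∈ J ^ (k + 1), Coh.toGlobal (s k) a = 0
  ker_le : ∀ k (V : (X (k + 1)).affineOpens),
    (i k).ker.ideal V ≤ (J ^ (k + 1)).map (baseFun (s (k + 1)) V.1)

variable {J : Ideal A} (S : AdicSys J)

instance (k : ℕ) : (S.X k).Over (Spec (CommRingCat.of A)) := ⟨S.s k⟩

instance (k : ℕ) : IsClosedImmersion (S.i k) := S.ci k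

/-- The inclusion of the bottom level. -/
noncomputable def AdicSys.j : ∀ k, S.X 0 ⟶ S.X k
  | 0 => 𝟙 _
  | k + 1 => AdicSys.j k ≫ S.i k

theorem AdicSys.j_succ (k : ℕ) : S.j (k + 1) = S.j k ≫ S.i k := rfl

instance isClosedImmersion_j : ∀ k, IsClosedImmersion (S.j k)
  | 0 => inferInstanceAs (IsClosedImmersion (𝟙 (S.X 0)))
  | k + 1 =>
    have := isClosedImmersion_j k
    inferInstanceAs (IsClosedImmersion (S.j k ≫ S.i k))

theorem app_baseFun {X Y : Scheme.{u}} (f : X ⟶ Y) (sY : Y ⟶ Spec (CommRingCat.of A))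
    (sX : X ⟶ Spec (CommRingCat.of A)) (h : f ≫ sY = sX) (V : Y.Opens) (a : A) :
    f.app V (baseFun sY V a) = baseFun sX (f ⁻¹ᵁ V) a := by
  subst h
  refine (ConcreteCategory.congr_hom (f.naturality (homOfLE (le_top (a := V))).op)
    (Coh.toGlobal sY a)).trans ?_
  rfl

theorem smulMod_app' {X : Scheme.{u}} [X.Over (Spec (CommRingCat.of A))] (M : X.Modules) (a : A)
    (U : X.Opens) (m : Γ(M, U)) :
    (Formal.smulMod A M a).app U m = baseFun (X ↘ Spec (CommRingCat.of A)) U a • m := rfl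

theorem AdicSys.killedBy (k : ℕ) (M : (S.X k).Modules) : Formal.KilledBy (J ^ (k + 1)) M := fun a ha => by
  refine Scheme.Modules.hom_ext _ _ fun U => ?_
  ext m
  refine (smulMod_app' M a U m).trans ?_
  show ((S.X k).presheaf.map _) (Coh.toGlobal (S.s k) a) • m = 0
  rw [S.nil k a ha]
  exact (congrArg (· • m) (map_zero _)).trans (zero_smul _ _)

theorem killedByIdeal_of_le_map {X : Scheme.{u}} [X.Over (Spec (CommRingCat.of A))]
    (I : X.IdealSheafData) (K : Ideal A)
    (hI : ∀ V : X.affineOpens, I.ideal V ≤ K.map (baseFun (X ↘ Spec (CommRingCat.of A)) V.1))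
    {M : X.Modules} (hM : Formal.KilledBy K M) : ClSub.KilledByIdeal I M := fun V r hr m => by
  have h := hI V hr
  clear hr
  induction h using Submodule.span_induction generalizing m with
  | mem x hx =>
    obtain ⟨a, ha, rfl⟩ := hx
    refine (smulMod_app' M a V.1 m).symm.trans ?_
    rw [hM a ha]
    rfl
  | zero => exact zero_smul _ _
  | add x y _ _ ihx ihy => rw [add_smul, ihx, ihy, add_zero]
  | smul c x _ ihx =>
    rw [smul_eq_mul, mul_comm, mul_smul]
    exact ihx _

theorem AdicSys.killed_i (k : ℕ) {M : (S.X (k + 1)).Modules} (hM : Formal.KilledBy (J ^ (k + 1)) M) :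
    ClSub.KilledByIdeal (S.i k).ker M :=
  killedByIdeal_of_le_map _ _ (S.ker_le k) hM

theorem AdicSys.ker_j_le : ∀ (k : ℕ) (V : (S.X k).affineOpens),
    (S.j k).ker.ideal V ≤ J.map (baseFun (S.s k) V.1)
  | 0, V => fun r hr => by
    rw [Scheme.Hom.ker_apply, RingHom.mem_ker] at hr
    have hr0 : r = 0 := by
      exact hr
    rw [hr0]
    exact Submodule.zero_mem _
  | k + 1, V => fun r hr => by
    rw [Scheme.Hom.ker_apply, RingHom.mem_ker] at hr
    let V' : (S.X k).affineOpens := ⟨(S.i k) ⁻¹ᵁ V.1, V.2.preimage (S.i k)⟩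
    have hmem : (S.i k).app V.1 r ∈ (S.j k).ker.ideal V' := by
      rw [Scheme.Hom.ker_apply, RingHom.mem_ker]
      exact hr
    have hle := AdicSys.ker_j_le k V' hmem
    have heq : J.map (baseFun (S.s k) V'.1) =
        (J.map (baseFun (S.s (k + 1)) V.1)).map ((S.i k).app V.1).hom := by
      rw [Ideal.map_map]
      refine congrArg (fun φ => J.map φ) (RingHom.ext fun a => ?_)
      exact (app_baseFun (S.i k) (S.s (k + 1)) (S.s k) (S.hs k) V.1 a).symm
    rw [heq, Ideal.mem_map_iff_of_surjective _ ((S.i k).app_surjective V.1 V.2)] at hle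
    obtain ⟨t, ht, hte⟩ := hle
    have hk : r - t ∈ (S.i k).ker.ideal V := by
      rw [Scheme.Hom.ker_apply, RingHom.mem_ker, map_sub, sub_eq_zero]
      exact hte.symm
    have hk' := Ideal.map_mono (Ideal.pow_le_self k.succ_ne_zero) (S.ker_le k V hk)
    simpa using Ideal.add_mem _ hk' ht

theorem AdicSys.killed_j (k : ℕ) {M : (S.X k).Modules} (hM : Formal.KilledBy J M) :
    ClSub.KilledByIdeal (S.j k).ker M :=
  killedByIdeal_of_le_map _ _ (S.ker_j_le k) hM

theorem isNoetherianRing_of_nilpotent_fg {R : Type u} [CommRing R] {N : Ideal R} (hN : N.FG)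
    (hnil : IsNilpotent N) (hq : IsNoetherianRing (R ⧸ N)) : IsNoetherianRing R := by
  refine IsNoetherianRing.of_prime fun P hP => ?_
  have hNP : N ≤ P := by
    obtain ⟨m, hm⟩ := hnil
    exact hP.le_of_pow_le (hm.trans_le bot_le)
  have : RingHomSurjective (Ideal.Quotient.mk N) := ⟨Ideal.Quotient.mk_surjective⟩
  let l : (R ⧸ N) →ₛₗ[Ideal.Quotient.mk N] R ⧸ N :=
    { toFun := id
      map_add' := fun _ _ => rfl
      map_smul' := fun r x => by
        induction x using Quotient.inductionOn' with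
        | h y => rfl }
  have : IsNoetherian R (R ⧸ N) :=
    (LinearMap.isNoetherian_iff_of_bijective l Function.bijective_id).2 hq
  refine Submodule.fg_of_fg_map_of_fg_inf_ker (Submodule.mkQ N) (IsNoetherian.noetherian _) ?_
  rw [Submodule.ker_mkQ, inf_eq_right.2 hNP]
  exact hN

theorem AdicSys.isLocallyNoetherian [IsNoetherianRing A] [IsLocallyNoetherian (S.X 0)] :
    ∀ k, IsLocallyNoetherian (S.X k)
  | 0 => inferInstance
  | k + 1 => by
    have := AdicSys.isLocallyNoetherian k
    refine ⟨fun V => ?_⟩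
    let φ := ((S.i k).app V.1).hom
    have hsurj : Function.Surjective φ := (S.i k).app_surjective V.1 V.2
    have hR' : IsNoetherianRing Γ(S.X k, (S.i k) ⁻¹ᵁ V.1) :=
      IsLocallyNoetherian.component_noetherian ⟨_, V.2.preimage (S.i k)⟩
    have hker : RingHom.ker φ = (J ^ (k + 1)).map (baseFun (S.s (k + 1)) V.1) := by
      refine le_antisymm (fun r hr => S.ker_le k V ?_) (Ideal.map_le_iff_le_comap.2 fun a ha => ?_)
      · rw [Scheme.Hom.ker_apply]; exact hr
      · refine RingHom.mem_ker.2 ((app_baseFun (S.i k) (S.s (k + 1)) (S.s k) (S.hs k) V.1 a).trans ?_)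
        show ((S.X k).presheaf.map _) (Coh.toGlobal (S.s k) a) = 0
        rw [S.nil k a ha]
        exact map_zero _
    have : IsNoetherianRing (Γ(S.X (k + 1), V.1) ⧸ RingHom.ker φ) :=
      isNoetherianRing_of_ringEquiv _ (RingHom.quotientKerEquivOfSurjective hsurj).symm
    refine isNoetherianRing_of_nilpotent_fg (N := RingHom.ker φ) ?_ ⟨2, ?_⟩ this
    · rw [hker]
      exact Ideal.FG.map (IsNoetherian.noetherian _) _
    · rw [hker, ← Ideal.map_pow, ← pow_mul, Ideal.zero_eq_bot, Ideal.map_eq_bot_iff_le_ker]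
      intro a ha
      refine RingHom.mem_ker.2 ?_
      show ((S.X (k + 1)).presheaf.map _) (Coh.toGlobal (S.s (k + 1)) a) = 0
      rw [S.nil (k + 1) a (Ideal.pow_le_pow_right (by omega) ha)]
      exact map_zero _

theorem push_smulMod {X Y : Scheme.{u}} [X.Over (Spec (CommRingCat.of A))]
    [Y.Over (Spec (CommRingCat.of A))] (f : X ⟶ Y)
    (hf : f ≫ (Y ↘ Spec (CommRingCat.of A)) = X ↘ Spec (CommRingCat.of A)) (M : X.Modules) (a : A) :
    (Coh.push f).map (Formal.smulMod A M a) = Formal.smulMod A ((Coh.push f).obj M) a := by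
  refine Scheme.Modules.hom_ext _ _ fun V => ?_
  ext m
  show (Formal.smulMod A M a).app (f ⁻¹ᵁ V) m = _
  refine (smulMod_app' M a _ m).trans (Eq.trans ?_ (smulMod_app' ((Coh.push f).obj M) a V m).symm)
  exact congrArg (fun c : Γ(X, f ⁻¹ᵁ V) => c • (show Γ(M, f ⁻¹ᵁ V) from m)) (app_baseFun f _ _ hf V a).symm

/-- The system of a cartesian tower over `Spec (A/J^(k+1))`. -/
noncomputable def AdicSys.ofCart (J : Ideal A) (Xs : ℕ → Scheme.{u})
    (p : (k : ℕ) → (Xs k ⟶ Spec (CommRingCat.of (A ⧸ J ^ (k + 1)))))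
    (i : (k : ℕ) → (Xs k ⟶ Xs (k + 1)))
    (hcart : ∀ k, IsPullback (i k) (p k) (p (k + 1)) (CohB1.specQuotTrans J k)) : AdicSys J where
  X := Xs
  i := i
  s k := p k ≫ Spec.map (CommRingCat.ofHom (Ideal.Quotient.mk (J ^ (k + 1))))
  hs k := by
    rw [← Category.assoc, (hcart k).w, Category.assoc, CohB1.specQuotTrans, ← Spec.map_comp]
    rfl
  ci k := by
    have : IsClosedImmersion (CohB1.specQuotTrans J k) :=
      IsClosedImmersion.spec_of_surjective _
        (Ideal.Quotient.factor_surjective (Ideal.pow_le_pow_right (Nat.le_succ (k + 1))))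
    exact MorphismProperty.of_isPullback (hcart k).flip this
  nil k a ha := by
    show (p k ≫ Spec.map (CommRingCat.ofHom (Ideal.Quotient.mk (J ^ (k + 1))))).appTop.hom
      ((Scheme.ΓSpecIso (CommRingCat.of A)).inv a) = 0
    rw [Scheme.Hom.comp_appTop]
    show (p k).appTop ((Spec.map (CommRingCat.ofHom (Ideal.Quotient.mk (J ^ (k + 1))))).appTop
      ((Scheme.ΓSpecIso (CommRingCat.of A)).inv a)) = 0
    refine (congrArg (p k).appTop (ConcreteCategory.congr_hom (Scheme.ΓSpecIso_inv_naturality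
      (CommRingCat.ofHom (Ideal.Quotient.mk (J ^ (k + 1))))) a).symm).trans ?_
    show (p k).appTop ((Scheme.ΓSpecIso _).inv (Ideal.Quotient.mk (J ^ (k + 1)) a)) = 0
    rw [Ideal.Quotient.eq_zero_iff_mem.2 ha, map_zero, map_zero]
  ker_le k V := by
    have : IsClosedImmersion (CohB1.specQuotTrans J k) :=
      IsClosedImmersion.spec_of_surjective _
        (Ideal.Quotient.factor_surjective (Ideal.pow_le_pow_right (Nat.le_succ (k + 1))))
    rw [FSchLib.ker_of_isPullback (hcart k), FSchLib.ideal_comap_eq_map (p (k + 1)) _ V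
      ⟨⊤, isAffineOpen_top _⟩ le_top, Ideal.map_le_iff_le_comap]
    intro r hr
    rw [Scheme.Hom.ker_apply, RingHom.mem_ker] at hr
    obtain ⟨c, rfl⟩ := (ConcreteCategory.bijective_of_isIso
      (Scheme.ΓSpecIso (CommRingCat.of (A ⧸ J ^ (k + 2)))).inv).2 r
    obtain ⟨a, rfl⟩ := Ideal.Quotient.mk_surjective c
    have h1 : (Scheme.ΓSpecIso (CommRingCat.of (A ⧸ J ^ (k + 1)))).inv
        (Ideal.Quotient.mk (J ^ (k + 1)) a) = 0 := by
      refine Eq.trans ?_ hr
      exact ConcreteCategory.congr_hom (Scheme.ΓSpecIso_inv_naturality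
        (CommRingCat.ofHom (Ideal.Quotient.factor (Ideal.pow_le_pow_right (Nat.le_succ (k + 1))))))
        (Ideal.Quotient.mk (J ^ (k + 2)) a)
    have ha : a ∈ J ^ (k + 1) := Ideal.Quotient.eq_zero_iff_mem.1
      ((ConcreteCategory.bijective_of_isIso
        (Scheme.ΓSpecIso (CommRingCat.of (A ⧸ J ^ (k + 1)))).inv).1 (h1.trans (map_zero _).symm))
    refine Ideal.mem_comap.2 ?_
    convert Ideal.mem_map_of_mem (baseFun (p (k + 1) ≫ Spec.map (CommRingCat.ofHom
      (Ideal.Quotient.mk (J ^ (k + 1 + 1))))) V.1) ha using 1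
    show ((Xs (k + 1)).presheaf.map _) ((p (k + 1)).app ⊤ _) = ((Xs (k + 1)).presheaf.map _) _
    congr 1
    show _ = (p (k + 1)).appTop ((Spec.map (CommRingCat.ofHom (Ideal.Quotient.mk (J ^ (k + 2))))).appTop
      ((Scheme.ΓSpecIso (CommRingCat.of A)).inv a))
    exact congrArg (p (k + 1)).appTop (ConcreteCategory.congr_hom (Scheme.ΓSpecIso_inv_naturality
      (CommRingCat.ofHom (Ideal.Quotient.mk (J ^ (k + 2))))) a)

end Groth.Agent.Coherent.Serre
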