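import Groth.Agent.Coherent.Serre.NearSupport
import Groth.Agent.Coherent.RpushStalk
import Groth.Agent.EulerLib.FieldExt

/-!
# Modules ample on a fibre, over the local ring of the point
-/

set_option autoImplicit false
set_option backward.isDefEq.respectTransparency false

universe u

open CategoryTheory CategoryTheory.Limits AlgebraicGeometry Opposite TopologicalSpace
open Groth.Agent.Coherent Groth.Agent.PicLib Groth.Agent.AmpleLib

namespace Groth.Agent.Coherent.Serre

variable {X Y : Scheme.{u}} (f : X ⟶ Y) (y : Y)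

/-- `X` over the local ring at `y`. -/
noncomputable abbrev atPoint : Scheme.{u} := pullback f (Y.fromSpecStalk y)

noncomputable instance : (atPoint f y).Over (Spec (CommRingCat.of (Y.presheaf.stalk y))) :=
  ⟨pullback.snd f (Y.fromSpecStalk y)⟩

/-- The projection to `X`. -/
noncomputable abbrev atPointι : atPoint f y ⟶ X := pullback.fst f (Y.fromSpecStalk y)

theorem isPullback_atPoint : IsPullback (atPointι f y)
    (atPoint f y ↘ Spec (CommRingCat.of (Y.presheaf.stalk y))) f (Y.fromSpecStalk y) :=
  IsPullback.of_hasPullback f (Y.fromSpecStalk y)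

variable [IsProper f] [IsLocallyNoetherian Y]

instance isProper_atPoint :
    IsProper (atPoint f y ↘ Spec (CommRingCat.of (Y.presheaf.stalk y))) :=
  inferInstanceAs (IsProper (pullback.snd f (Y.fromSpecStalk y)))

omit [IsLocallyNoetherian Y] [IsProper f] in
/-- The fibre sits in `X` over the local ring as the set over the closed point. -/
theorem exists_fibre_lift : ∃ j : f.fiber y ⟶ atPoint f y, IsClosedImmersion j ∧
    j ≫ atPointι f y = f.fiberι y ∧
    ∀ x : atPoint f y, (atPoint f y ↘ Spec (CommRingCat.of (Y.presheaf.stalk y))) x =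
      IsLocalRing.closedPoint (Y.presheaf.stalk y) → x ∈ Set.range j := by
  have hw : f.fiberι y ≫ f =
      (f.fiberToSpecResidueField y ≫ Spec.map (Y.residue y)) ≫ Y.fromSpecStalk y := by
    rw [Category.assoc]
    exact pullback.condition
  let j : f.fiber y ⟶ atPoint f y := pullback.lift (f.fiberι y) _ hw
  have h₁ : IsPullback (f.fiberι y) (f.fiberToSpecResidueField y) f
      (Spec.map (Y.residue y) ≫ Y.fromSpecStalk y) := IsPullback.of_hasPullback _ _
  have h₂ : IsPullback j (f.fiberToSpecResidueField y) (pullback.snd f (Y.fromSpecStalk y))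
      (Spec.map (Y.residue y)) := by
    refine IsPullback.of_right ?_ (pullback.lift_snd _ _ _) (IsPullback.of_hasPullback f (Y.fromSpecStalk y))
    rw [pullback.lift_fst]
    exact h₁
  have : IsClosedImmersion (Spec.map (Y.residue y)) :=
    IsClosedImmersion.spec_of_surjective _ IsLocalRing.residue_surjective
  have hj : IsClosedImmersion j :=
    MorphismProperty.of_isPullback (P := @IsClosedImmersion) h₂.flip inferInstance
  refine ⟨j, hj, pullback.lift_fst _ _ _, fun x hx => ?_⟩
  have hfx : f (atPointι f y x) = y := by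
    have h := congrArg (fun φ => φ x) (pullback.condition (f := f) (g := Y.fromSpecStalk y))
    simp only [Scheme.Hom.comp_apply] at h
    exact h.trans ((congrArg (Y.fromSpecStalk y) hx).trans Scheme.fromSpecStalk_closedPoint)
  obtain ⟨z, hz⟩ : atPointι f y x ∈ Set.range (f.fiberι y) := by
    rw [Scheme.Hom.range_fiberι]; exact hfx
  refine ⟨z, (atPointι f y).injective ?_⟩
  rw [← Scheme.Hom.comp_apply, pullback.lift_fst]
  exact hz

variable {L : X.Modules} (hL : PicF.IsInvertible L)
  (hy : CohB1.IsAmple ((Scheme.Modules.pullback (f.fiberι y)).obj L))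
include hL hy

theorem exists_vanishesFrom_atPoint (F : (atPoint f y).Modules) (hF : Coh.IsCoh F) :
    ∃ n₀, VanishesFrom ((Scheme.Modules.pullback (atPointι f y)).obj L) n₀ F := by
  obtain ⟨j, hj, hjι, hcl⟩ := exists_fibre_lift f y
  exact exists_vanishesFrom_of_closedFibre (Y.presheaf.stalk y)
    (PicLoc.isInvertible_pullback _ hL) j hcl
    (isAmple_of_iso (((Scheme.Modules.pullbackComp j (atPointι f y)).app L ≪≫
      (Scheme.Modules.pullbackCongr hjι).app L).symm) hy) F hF

/-- Ample on the fibre is ample over the local ring. -/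
theorem isAmple_atPoint : CohB1.IsAmple ((Scheme.Modules.pullback (atPointι f y)).obj L) := by
  have : IsLocallyNoetherian (atPoint f y) := LocallyOfFiniteType.isLocallyNoetherian
    (atPoint f y ↘ Spec (CommRingCat.of (Y.presheaf.stalk y)))
  have : CompactSpace (atPoint f y) := QuasiCompact.compactSpace_of_compactSpace
    (atPoint f y ↘ Spec (CommRingCat.of (Y.presheaf.stalk y)))
  refine isAmple_of_H1_twisted_ideals (PicLoc.isInvertible_pullback _ hL) fun I i _ hI => ?_
  obtain ⟨N, hN⟩ := exists_vanishesFrom_atPoint f y hL hy I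
    (isCoh_of_mono i (isCoh_structureModule _) hI)
  exact ⟨N, (subsingleton_H'_top_iff _ 1).1 (hN (N + 1) N.le_succ 1 one_pos)⟩

/-- The stalks at `y` of the higher direct images of high twists vanish. -/
theorem exists_subsingleton_stalk_rpush (M : X.Modules) (hM : Coh.IsCoh M)
    [HasInjectiveResolutions X.Modules] :
    ∃ d₀ : ℕ, ∀ d : ℕ, d₀ ≤ d → ∀ p : ℕ, 0 < p → Subsingleton
      (((Coh.Rpush f p).obj (CohB1.tensorMod M (CohB1.tensorPow L d))).presheaf.stalk y) := by
  have hMq := hM.1
  let g := atPointι f y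
  have : IsLocallyNoetherian (atPoint f y) := LocallyOfFiniteType.isLocallyNoetherian
    (atPoint f y ↘ Spec (CommRingCat.of (Y.presheaf.stalk y)))
  let F := (Scheme.Modules.pullback g).obj M
  have hF : Coh.IsCoh F := ⟨EGA43.InjFibre.isQCoh_pullback _ _, isFT_pullback_qcoh _ hM.1 hM.2⟩
  obtain ⟨N, hN⟩ := exists_vanishesFrom_atPoint f y hL hy F hF
  have : IsLocallyNoetherian X := LocallyOfFiniteType.isLocallyNoetherian f
  refine ⟨N, fun d hd p hp => ?_⟩
  have : Coh.IsQCoh (CohB1.tensorMod M (CohB1.tensorPow L d)) :=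
    (EulerLib.isCoh_twist (isInvertible_tensorPow hL d) hM).1
  obtain ⟨e⟩ := nonempty_stalk_rpush_equiv f (CohB1.tensorMod M (CohB1.tensorPow L d)) p y
    (atPoint f y) g (isPullback_atPoint f y)
  obtain ⟨ep, -⟩ := exists_pullPowIso g hL d
  have h1 := (subsingleton_H'_top_iff _ p).1 (subsingleton_H'_of_iso
    (tensorIso (Iso.refl F) ep.symm ≪≫ (DCat.PullTensor.pullTensorIso g M (CohB1.tensorPow L d)).symm)
    p ⊤ (hN d hd p hp))
  exact @Equiv.subsingleton _ _ e.toEquiv h1

end Groth.Agent.Coherent.Serre
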