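import Groth.Agent.Coherent.GradedSystem

/-!
# An eventually generated system killed by powers of the operators is eventually zero
-/

set_option autoImplicit false

universe u v

open DirectSum

namespace Groth.Agent.Coherent.Serre

variable {A : Type u} [CommRing A] {ι : Type} [Fintype ι] {H : ℕ → Type v}
  [∀ n, AddCommGroup (H n)] [∀ n, Module A (H n)]

/-- An operator, on the direct sum. -/
noncomputable def tot (T : ∀ n, H n →ₗ[A] H (n + 1)) : Module.End A (⨁ n, H n) :=
  DirectSum.toModule A ℕ _ fun n => (DirectSum.lof A ℕ H (n + 1)) ∘ₗ T n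

theorem tot_lof (T : ∀ n, H n →ₗ[A] H (n + 1)) (n : ℕ) (x : H n) :
    tot T (DirectSum.lof A ℕ H n x) = DirectSum.lof A ℕ H (n + 1) (T n x) :=
  DirectSum.toModule_lof A n x

theorem tot_pow_lof {T : ∀ n, H n →ₗ[A] H (n + 1)} (n : ℕ) (P : ∀ k, H n → H (n + k))
    (h0 : ∀ x, P 0 x = x) (hs : ∀ k x, P (k + 1) x = T (n + k) (P k x)) (k : ℕ) (x : H n) :
    (tot T ^ k) (DirectSum.lof A ℕ H n x) = DirectSum.lof A ℕ H (n + k) (P k x) := by
  induction k with
  | zero => rw [pow_zero, Module.End.one_apply, h0]; rfl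
  | succ k ih => rw [pow_succ', Module.End.mul_apply, ih, tot_lof, hs]; rfl

variable {T : ι → ∀ n, H n →ₗ[A] H (n + 1)}

/-- An eventually generated system of finite modules, each element of which is killed by a power of
each operator, is eventually zero. -/
theorem eventually_subsingleton (hT : Coherent.EG T) (hfin : ∀ n, Module.Finite A (H n))
    (hcomm : ∀ i j n (x : H n), T i (n + 1) (T j n x) = T j (n + 1) (T i n x))
    (hkill : ∀ i n (x : H n), ∃ k : ℕ, (tot (T i) ^ k) (DirectSum.lof A ℕ H n x) = 0) :
    ∃ N, ∀ n, N ≤ n → Subsingleton (H n) := by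
  classical
  obtain ⟨n₀, hn₀⟩ := hT
  obtain ⟨r, g, hg⟩ := Module.Finite.exists_fin (R := A) (M := H n₀)
  choose k hk using hkill
  let κ₀ : ι → ℕ := fun i => Finset.univ.sup fun l => k i n₀ (g l)
  let K : ℕ := ∑ i, κ₀ i
  let S : ℕ → Set (⨁ n, H n) := fun m =>
    {v | ∃ κ : ι → ℕ, (∑ i, κ i) + m ≤ K ∧ ∀ i, (tot (T i) ^ κ i) v = 0} ∪ {0}
  have hC : ∀ i j, Commute (tot (T i)) (tot (T j)) := fun i j => by
    refine DirectSum.linearMap_ext A fun n => LinearMap.ext fun x => ?_
    show tot (T i) (tot (T j) (DirectSum.lof A ℕ H n x)) = tot (T j) (tot (T i) (DirectSum.lof A ℕ H n x))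
    rw [tot_lof, tot_lof, tot_lof, tot_lof, hcomm]
  have hpow : ∀ {t : Module.End A (⨁ n, H n)} {a b : ℕ} {v}, a ≤ b → (t ^ a) v = 0 → (t ^ b) v = 0 := by
    intro t a b v hab h
    obtain ⟨c, rfl⟩ := Nat.exists_eq_add_of_le hab
    rw [add_comm, pow_add, Module.End.mul_apply, h, map_zero]
  have main : ∀ m, ∀ x : H (n₀ + m), DirectSum.lof A ℕ H (n₀ + m) x ∈ Submodule.span A (S m) := by
    intro m
    induction m with
    | zero =>
      intro x
      have hx : x ∈ Submodule.span A (Set.range g) := by rw [hg]; trivial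
      refine Submodule.span_induction ?_ ?_ ?_ ?_ hx
      · rintro _ ⟨l, rfl⟩
        refine Submodule.subset_span (Or.inl ⟨κ₀, le_rfl, fun i => hpow ?_ (hk i n₀ (g l))⟩)
        exact Finset.le_sup (f := fun l => k i n₀ (g l)) (Finset.mem_univ l)
      · rw [map_zero]; exact Submodule.zero_mem _
      · intro a b _ _ ha hb
        rw [map_add]; exact Submodule.add_mem _ ha hb
      · intro c a _ ha
        rw [map_smul]; exact Submodule.smul_mem _ c ha
    | succ m ih =>
      intro x
      obtain ⟨y, hy⟩ := hn₀ (n₀ + m) (Nat.le_add_right _ _) x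
      show DirectSum.lof A ℕ H (n₀ + m + 1) x ∈ _
      rw [hy, map_sum]
      refine Submodule.sum_mem _ fun j _ => ?_
      rw [← tot_lof]
      refine Submodule.span_induction ?_ ?_ ?_ ?_ (ih (y j))
      · rintro v (⟨κ, hκ, hv⟩ | rfl)
        · rcases Nat.eq_zero_or_pos (κ j) with hj | hj
          · have : v = 0 := by simpa [hj] using hv j
            rw [this, map_zero]; exact Submodule.zero_mem _
          refine Submodule.subset_span (Or.inl ⟨Function.update κ j (κ j - 1), ?_, fun i => ?_⟩)
          · rw [Finset.sum_update_of_mem (Finset.mem_univ j)]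
            rw [← Finset.add_sum_erase _ _ (Finset.mem_univ j), Finset.erase_eq] at hκ
            omega
          · rcases eq_or_ne i j with rfl | hij
            · rw [Function.update_self, ← Module.End.mul_apply, ← pow_succ]
              exact hpow (by omega) (hv i)
            · rw [Function.update_of_ne hij, ← Module.End.mul_apply, ((hC i j).pow_left (κ i)).eq,
                Module.End.mul_apply, hv i, map_zero]
        · rw [map_zero]; exact Submodule.zero_mem _
      · rw [map_zero]; exact Submodule.zero_mem _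
      · intro a b _ _ ha hb
        rw [map_add]; exact Submodule.add_mem _ ha hb
      · intro c a _ ha
        rw [map_smul]; exact Submodule.smul_mem _ c ha
  refine ⟨n₀ + (K + 1), fun n hn => subsingleton_of_forall_eq 0 fun x => ?_⟩
  obtain ⟨m, rfl⟩ : ∃ m, n = n₀ + m := ⟨n - n₀, by omega⟩
  have hS : Submodule.span A (S m) = ⊥ := by
    rw [Submodule.span_eq_bot]
    rintro v (⟨κ, hκ, -⟩ | rfl)
    · omega
    · rfl
  have h := main m x
  rw [hS, Submodule.mem_bot] at h
  have := congrArg (DirectSum.component A ℕ H (n₀ + m)) h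
  rwa [DirectSum.component.lof_self, map_zero] at this

end Groth.Agent.Coherent.Serre
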