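import Groth.Agent.Coherent.ProperFinite
import Groth.Agent.Coherent.DevissageMain
import Groth.Agent.Coherent.DevissageIdeal
import Groth.Agent.Coherent.AnnSheaf
import Groth.Agent.Coherent.Affineness
import Groth.Agent.Coherent.FinMor
import Groth.Agent.FSchLib.IdealSheaf
import Groth.Agent.Props12.FinLocFree
import Mathlib.AlgebraicGeometry.Morphisms.Finite

/-!
# Dévissage through finite covers of integral closed subsets
-/

set_option autoImplicit false
set_option backward.isDefEq.respectTransparency false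

universe u

open CategoryTheory CategoryTheory.Limits AlgebraicGeometry Opposite TopologicalSpace
open Groth.Agent.Coherent Groth.Agent.AssSch12 Groth.Agent.ModStalk

namespace Groth.Agent.Coherent.Serre

variable {X : Scheme.{u}}

local notation "St" => DerSch.stalkFunctor X

section Sub

variable {W : Scheme.{u}} (i : W ⟶ X)

/-- `O_X → i_* O_W`. -/
noncomputable def toSub : Coh.structureModule X ⟶ (Coh.push i).obj (Coh.structureModule W) :=
  unitDesc _ (1 : Γ(W, i ⁻¹ᵁ ⊤))

theorem toSub_app (V : X.Opens) (f : Γ(X, V)) : (toSub i).app V f = i.app V f := by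
  refine (app_unit (toSub i) f).trans ?_
  refine (congrArg (f • ·) (unitVal_unitDesc
    ((Coh.push i).obj (Coh.structureModule W)) _ V)).trans ?_
  exact (congrArg (fun z : Γ(W, i ⁻¹ᵁ V) => i.app V f * z)
    (map_one (W.presheaf.map _).hom)).trans (mul_one _)

theorem isQCoh_kernel_toSub [QuasiCompact i] [QuasiSeparated i] : Coh.IsQCoh (kernel (toSub i)) := by
  have : Coh.IsQCoh (Coh.structureModule X) := isQCoh_structureModule (X := X)
  have : Coh.IsQCoh (Coh.structureModule W) := isQCoh_structureModule (X := W)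
  have : Coh.IsQCoh ((Coh.push i).obj (Coh.structureModule W)) := isQCoh_push i _
  exact isQCoh_kernel _

end Sub

variable [IsLocallyNoetherian X] {K : X.Modules → Prop} {y : X} {Z : Set X}

/-- A finite scheme over `X` lying in the closure of `y` and meeting `y` gives all modules
with stalk `κ(y)`. -/
theorem oneK_of_finite_push_quot (hKe : ExtClass K) (S : Set X) (hyS : closure {y} ⊆ S)
    (hquot : ∀ {E F : X.Modules} (p : E ⟶ F), Epi p → Coh.IsCoh E → Coh.IsCoh F →
      CohB1.support E ⊆ S → K E → K F)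
    (hsm : SmallerIn K y Z) {Z' : Scheme.{u}} [IsReduced Z'] (g : Z' ⟶ X) [IsFinite g]
    (hrange : Set.range g ⊆ closure {y}) (hy : y ∈ Set.range g) (hZ : closure {y} ⊆ Z)
    (hKM : ∀ M : Z'.Modules, Coh.IsCoh M → K ((Coh.push g).obj M)) : OneK K y Z := by
  rintro C hC hCZ ⟨e⟩
  have := hC.1
  have : IsLocallyNoetherian Z' := LocallyOfFiniteType.isLocallyNoetherian g
  let O' := Coh.structureModule Z'
  let G := (Coh.push g).obj O'
  have hO' : Coh.IsCoh O' := isCoh_structureModule Z'
  have hpush : ∀ M : Z'.Modules, Coh.IsCoh M → Coh.IsCoh ((Coh.push g).obj M) := fun M hM =>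
    isCoh_push_finite g hM
  have hG : Coh.IsCoh G := hpush _ hO'
  have := hG.1
  -- the stalk at `y`
  have hle : Scheme.IdealSheafData.vanishingIdeal ⟨closure {y}, isClosed_closure⟩ ≤ g.ker := fun V => by
    intro r hr
    rw [Scheme.Hom.ker_apply, RingHom.mem_ker]
    refine (basicOpen_eq_bot_iff _).1 ?_
    rw [← Scheme.preimage_basicOpen]
    refine eq_bot_iff.2 fun z hz => ?_
    let p := V.2.primeIdealOf ⟨g z, X.basicOpen_le r hz⟩
    have hp : V.2.fromSpec p = g z := V.2.fromSpec_primeIdealOf _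
    rw [Scheme.IdealSheafData.vanishingIdeal_ideal] at hr
    have hmem : r ∈ p.asIdeal := (PrimeSpectrum.mem_vanishingIdeal _ _).1 hr p
      (show V.2.fromSpec p ∈ closure {y} from hp ▸ hrange ⟨z, rfl⟩)
    have hnot : p ∈ V.2.fromSpec ⁻¹ᵁ X.basicOpen r := show V.2.fromSpec p ∈ X.basicOpen r from hp ▸ hz
    rw [V.2.fromSpec_preimage_basicOpen] at hnot
    exact (hnot hmem).elim
  have hk : ClSub.KilledByIdeal
      (Scheme.IdealSheafData.vanishingIdeal ⟨closure {y}, isClosed_closure⟩) G := fun V r hr m =>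
    killedByIdeal_of_mono g O' (𝟙 G) V r (hle V hr) m
  have hkill : Killed y 1 G := killed_of_killedByIdeal isClosed_closure le_rfl hG hk
  have hne : y ∈ CohB1.support G := fun hsub => by
    obtain ⟨z, hz⟩ := hy
    obtain ⟨V, hyV, i₁, i₂, h1⟩ := TopCat.Presheaf.germ_eq G.presheaf y
      (U := (⊤ : X.Opens)) (V := (⊤ : X.Opens)) trivial trivial
      (1 : Γ(Z', g ⁻¹ᵁ ⊤)) (0 : Γ(Z', g ⁻¹ᵁ ⊤)) (hsub.elim _ _)
    have h2 : (1 : Γ(Z', g ⁻¹ᵁ V)) = 0 :=
      ((map_one (Z'.presheaf.map ((Opens.map g.base).map i₁).op).hom).symm.trans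
        (h1.trans (map_zero _)))
    have : z ∈ g ⁻¹ᵁ V := show g z ∈ V from hz ▸ hyV
    have : Nonempty (g ⁻¹ᵁ V : Z'.Opens) := ⟨⟨z, this⟩⟩
    exact one_ne_zero h2
  have := finite_stalk hG y
  obtain ⟨n, ⟨eG⟩⟩ := exists_equiv_fin (R := X.presheaf.stalk y) (M := G.presheaf.stalk y)
    fun r hr a => hkill r (by rwa [pow_one]) a
  rcases n with _ | n
  · exact absurd (eG.toEquiv.subsingleton) hne
  let π : (St y).obj G ⟶ resMod y :=
    ModuleCat.ofHom ((LinearMap.proj 0).comp eG.toLinearMap)
  have hqsky := isQCoh_sky_of_killed y 1 (killed_resMod (y := y))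
  let a : G ⟶ (sky y).obj (resMod y) := skyMap y π
  let b : C ⟶ (sky y).obj (resMod y) := skyMap y e.hom
  -- the image of `G` modulo the image of `C`
  let d : G ⟶ cokernel b := a ≫ cokernel.π b
  have : Coh.IsQCoh (cokernel b) := isQCoh_cokernel b
  have hQq : Coh.IsQCoh (Abelian.image d) := isQCoh_image d
  have hQ : Coh.IsCoh (Abelian.image d) :=
    AssSch12.isCoh_of_epi G (Abelian.factorThruImage d) hQq (locallyFinGen_of_isFT G hG.2)
  have hd : ∀ u, (St y).map d u = 0 := fun u => by
    let v : (St y).obj C := e.inv (π u)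
    have hab : (St y).map a u = (St y).map b v :=
      (stalk_skyMap_eq_iff y π e.hom u v).2 (by simp [v])
    refine (stalk_comp_apply a (cokernel.π b) u).symm.trans ?_
    rw [hab, stalk_comp_apply, cokernel.condition]
    exact stalk_zero_apply v
  have hyQ : y ∉ CohB1.support (Abelian.image d) := fun h => h (subsingleton_of_forall_eq 0 fun q => by
    obtain ⟨u, rfl⟩ := (ModuleCat.epi_iff_surjective
      ((St y).map (Abelian.factorThruImage d))).1 inferInstance q
    refine (ModuleCat.mono_iff_injective ((St y).map (Abelian.image.ι d))).1 inferInstance ?_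
    refine ((stalk_comp_apply _ _ _).trans ?_).trans (map_zero _).symm
    rw [Abelian.image.fac]
    exact hd u)
  let I := annSheaf hQ.1 hQ.2
  let i' := (I.comap g).subschemeι
  let M := kernel (toSub i')
  have hM : Coh.IsCoh M := isCoh_of_mono (kernel.ι _) hO' (isQCoh_kernel_toSub i')
  let P := (Coh.push g).obj M
  have hP : Coh.IsCoh P := hpush _ hM
  let j : P ⟶ G := (Coh.push g).map (kernel.ι (toSub i'))
  have hPS : CohB1.support P ⊆ closure {y} := fun x hx => by
    by_contra hxc
    refine hx (subsingleton_of_forall_eq 0 fun u => ?_)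
    obtain ⟨V, hV, s, rfl⟩ := P.presheaf.exists_germ_eq u
    let V' : X.Opens := V ⊓ ⟨(closure {y})ᶜ, isClosed_closure.isOpen_compl⟩
    have hbot : g ⁻¹ᵁ V' = ⊥ := eq_bot_iff.2 fun z hz => (hz.2 (hrange ⟨z, rfl⟩)).elim
    have : Subsingleton Γ(M, g ⁻¹ᵁ V') := by
      rw [hbot]
      exact subsingleton_of_forall_eq 0 fun z => Props12.eq_of_nhds M _ _ fun w hw => hw.elim
    have hxV' : x ∈ V' := ⟨hV, hxc⟩
    rw [← TopCat.Presheaf.germ_res_apply P.presheaf (homOfLE (inf_le_left : V' ≤ V)) x hxV' s]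
    exact (congrArg (P.presheaf.germ V' x hxV')
      (@Subsingleton.elim Γ(M, g ⁻¹ᵁ V') this _ 0)).trans (map_zero _)
  -- the ideal maps to zero
  have hjd : j ≫ d = 0 := by
    rw [← Abelian.image.fac d, ← Category.assoc]
    refine Eq.trans (congrArg (· ≫ Abelian.image.ι d) ?_) zero_comp
    refine Scheme.Modules.hom_ext _ _ fun V => ?_
    ext m
    refine Props12.eq_of_nhds (Abelian.image d) _ _ fun z hz => ?_
    obtain ⟨U, hU, hzU, hUV⟩ := Opens.isBasis_iff_nbhd.mp X.isBasis_affineOpens hz
    refine ⟨U, hUV, hzU, Eq.trans ?_ (map_zero _).symm⟩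
    rw [← app_resM]
    let m' : Γ(P, U) := resM P hUV m
    show (Abelian.factorThruImage d).app U (j.app U m') = 0
    let w : Γ(Z', g ⁻¹ᵁ U) := (kernel.ι (toSub i')).app (g ⁻¹ᵁ U) m'
    have hw : w ∈ (I.comap g).ideal ⟨g ⁻¹ᵁ U, hU.preimage g⟩ := by
      rw [← Scheme.IdealSheafData.ker_subschemeι (I.comap g), Scheme.Hom.ker_apply, RingHom.mem_ker]
      exact (toSub_app i' _ w).symm.trans (kernel_ι_app_zero (toSub i') _ m')
    rw [FSchLib.ideal_comap_eq_map g I ⟨g ⁻¹ᵁ U, hU.preimage g⟩ ⟨U, hU⟩ le_rfl,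
      Ideal.map, ← Ideal.submodule_span_eq] at hw
    show (Abelian.factorThruImage d).app U (show Γ(G, U) from w) = 0
    have key : ∀ (c x : Γ(Z', g ⁻¹ᵁ U)), x ∈ Submodule.span Γ(Z', g ⁻¹ᵁ U)
        ((g.appLE U (g ⁻¹ᵁ U) le_rfl).hom '' (I.ideal ⟨U, hU⟩ : Set Γ(X, U))) →
        (Abelian.factorThruImage d).app U (show Γ(G, U) from c * x) = 0 := fun c x hx => by
      induction hx using Submodule.span_induction generalizing c with
      | mem x hx =>
        obtain ⟨r, hr, rfl⟩ := hx
        let c' : Γ(G, U) := c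
        have he : (show Γ(G, U) from c * (g.appLE U (g ⁻¹ᵁ U) le_rfl) r) = r • c' := by
          show _ = g.app U r * c
          rw [mul_comm, Scheme.Hom.appLE_eq_app]
        refine (congrArg _ he).trans ?_
        rw [Scheme.Modules.Hom.app_smul]
        exact killed_annSheaf hQ.1 hQ.2 ⟨U, hU⟩ r hr _
      | zero => rw [mul_zero]; exact map_zero _
      | add x x' _ _ hx hx' =>
        rw [mul_add]
        refine Eq.trans (map_add ((Abelian.factorThruImage d).app U).hom _ _) ?_
        erw [hx c, hx' c, add_zero]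
      | smul t x _ hx =>
        rw [show c * (t • x) = (c * t) * x from (mul_assoc c t x).symm]
        exact hx (c * t)
    have h1 := key 1 w hw
    rwa [one_mul] at h1
  -- the ideal is everything near `y`
  let O : X.Opens := ⟨(I.support : Set X)ᶜ, I.support.2.isOpen_compl⟩
  have hyO : y ∈ O := fun h => hyQ ((support_annSheaf hQ.1 hQ.2).subset h)
  have hjsurj : ∀ u, ∃ v, (St y).map j v = u := fun u => by
    obtain ⟨V, hV, c, rfl⟩ := G.presheaf.exists_germ_eq (show G.presheaf.stalk y from u)
    let V' := V ⊓ O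
    have hyV' : y ∈ V' := ⟨hV, hyO⟩
    let c' : Γ(G, V') := resM G inf_le_left c
    have hc : (toSub i').app (g ⁻¹ᵁ V') (show Γ(O', g ⁻¹ᵁ V') from c') = 0 := by
      refine (toSub_app i' _ _).trans ?_
      have hbot : i' ⁻¹ᵁ (g ⁻¹ᵁ V') = ⊥ := by
        refine eq_bot_iff.2 fun z hz => ?_
        have hzs : i' z ∈ (I.comap g).support :=
          ((I.comap g).range_subschemeι).subset ⟨z, rfl⟩
        rw [Scheme.IdealSheafData.support_comap] at hzs
        exact (hz.2 hzs).elim
      have : Subsingleton Γ((I.comap g).subscheme, i' ⁻¹ᵁ (g ⁻¹ᵁ V')) :=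
        hbot ▸ CommRingCat.subsingleton_of_isTerminal
          ((I.comap g).subscheme.sheaf.isTerminalOfEqEmpty rfl)
      exact @Subsingleton.elim Γ((I.comap g).subscheme, i' ⁻¹ᵁ (g ⁻¹ᵁ V')) this _ _
    obtain ⟨k, hk⟩ := kernel_sections_exact (toSub i') (U := g ⁻¹ᵁ V') _ hc
    refine ⟨P.presheaf.germ V' y hyV' (show Γ(P, V') from k), ?_⟩
    refine (stalk_map_germ j hyV' _).trans ?_
    refine Eq.trans (congrArg (G.presheaf.germ V' y hyV') hk) ?_
    exact TopCat.Presheaf.germ_res_apply G.presheaf (homOfLE inf_le_left) y hyV' c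
  -- the map to the image of `C`
  have hzero : (j ≫ a) ≫ cokernel.π b = 0 := by rw [Category.assoc]; exact hjd
  let t : P ⟶ Abelian.image b := kernel.lift (cokernel.π b) (j ≫ a) hzero
  have hti : t ≫ Abelian.image.ι b = j ≫ a := kernel.lift_ι _ _ _
  have hIb : Coh.IsQCoh (Abelian.image b) := isQCoh_image b
  have hB : Coh.IsCoh (Abelian.image b) :=
    AssSch12.isCoh_of_epi C (Abelian.factorThruImage b) hIb (locallyFinGen_of_isFT C hC.2)
  have hBZ : CohB1.support (Abelian.image b) ⊆ Z :=
    (support_subset_of_epi (Abelian.factorThruImage b)).trans hCZ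
  have htsurj : ∀ q, ∃ w, (St y).map t w = q := fun q => by
    obtain ⟨c, rfl⟩ := (ModuleCat.epi_iff_surjective
      ((St y).map (Abelian.factorThruImage b))).1 inferInstance q
    let f : Fin (n + 1) → resMod y := fun _ => e.hom c
    obtain ⟨w, hw⟩ := hjsurj (eG.symm f)
    refine ⟨w, (ModuleCat.mono_iff_injective ((St y).map (Abelian.image.ι b))).1 inferInstance ?_⟩
    refine (stalk_comp_apply _ _ _).trans (Eq.trans ?_ (stalk_comp_apply _ _ _).symm)
    rw [hti, Abelian.image.fac, ← stalk_comp_apply, hw]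
    refine (stalk_skyMap_eq_iff y π e.hom _ _).2 ?_
    show (eG (eG.symm f)) 0 = e.hom c
    rw [eG.apply_symm_apply]
  let B := Abelian.image b
  have : Coh.IsQCoh P := hP.1
  have hIt : Coh.IsQCoh (Abelian.image t) := isQCoh_image t
  have hT : Coh.IsCoh (Abelian.image t) := isCoh_of_mono (Abelian.image.ι t) hB hIt
  have hKT : K (Abelian.image t) :=
    hquot (Abelian.factorThruImage t) inferInstance hP hT (hPS.trans hyS) (hKM M hM)
  have hcok : Coh.IsCoh (cokernel t) := isCoh_cokernel t hP.1 hB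
  have hKcok : K (cokernel t) := hsm _ hcok ((support_subset_of_epi (cokernel.π t)).trans hBZ)
    fun h => h (subsingleton_of_forall_eq 0 fun z => by
      obtain ⟨q, rfl⟩ := (ModuleCat.epi_iff_surjective ((St y).map (cokernel.π t))).1 inferInstance z
      obtain ⟨w, rfl⟩ := htsurj q
      refine (stalk_comp_apply _ _ _).trans ?_
      rw [cokernel.condition]; exact stalk_zero_apply _)
  have hKB : K B := hKe.ext
    (ShortComplex.mk (Abelian.image.ι t) (cokernel.π t) (kernel.condition (cokernel.π t)))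
    { exact := ShortComplex.exact_of_f_is_kernel _ (kernelIsKernel (cokernel.π t))
      mono_f := inferInstanceAs (Mono (kernel.ι (cokernel.π t)))
      epi_g := inferInstanceAs (Epi (cokernel.π t)) }
    hT hB hcok hKT hKcok
  have hker : Coh.IsCoh (kernel b) := isCoh_kernel b hC hqsky
  have hKker : K (kernel b) := hsm _ hker ((support_subset_of_mono (kernel.ι b)).trans hCZ)
    fun h => h (subsingleton_of_forall_eq 0 fun z => by
      refine (ModuleCat.mono_iff_injective ((St y).map (kernel.ι b))).1 inferInstance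
        (Eq.trans ?_ (map_zero _).symm)
      apply e.toLinearEquiv.injective
      rw [map_zero]
      have h0 : (St y).map b ((St y).map (kernel.ι b) z) = (St y).map b 0 := by
        rw [stalk_comp_apply, kernel.condition, map_zero]; exact stalk_zero_apply _
      exact ((stalk_skyMap_eq_iff y e.hom e.hom _ _).1 h0).trans (map_zero _))
  have w0 : kernel.ι b ≫ Abelian.factorThruImage b = 0 := by
    rw [← cancel_mono (Abelian.image.ι b), Category.assoc, Abelian.image.fac, kernel.condition,
      zero_comp]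
  exact hKe.ext (ShortComplex.mk (kernel.ι b) (Abelian.factorThruImage b) w0)
    { mono_f := inferInstanceAs (Mono (kernel.ι b))
      epi_g := inferInstanceAs (Epi (Abelian.factorThruImage b))
      exact := ShortComplex.exact_of_f_is_kernel _
        (isKernelOfComp (f := Abelian.factorThruImage b) (Abelian.image.ι b) b (kernelIsKernel b) w0
          (Abelian.image.fac b)) }
    hker hC hB hKker hKB

/-- A finite scheme over `X` lying in the closure of `y` and meeting `y`, for classes closed under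
all quotients. -/
theorem oneK_of_finite_push (hKe : ExtClass K)
    (hquot : ∀ {E F : X.Modules} (p : E ⟶ F), Epi p → Coh.IsCoh E → Coh.IsCoh F → K E → K F)
    (hsm : SmallerIn K y Z) {Z' : Scheme.{u}} [IsReduced Z'] (g : Z' ⟶ X) [IsFinite g]
    (hrange : Set.range g ⊆ closure {y}) (hy : y ∈ Set.range g) (hZ : closure {y} ⊆ Z)
    (hKM : ∀ M : Z'.Modules, Coh.IsCoh M → K ((Coh.push g).obj M)) : OneK K y Z :=
  oneK_of_finite_push_quot hKe Set.univ (Set.subset_univ _) (fun p h₁ h₂ h₃ _ h₄ => hquot p h₁ h₂ h₃ h₄)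
    hsm g hrange hy hZ hKM

end Groth.Agent.Coherent.Serre
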