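import Groth.Agent.Coherent.Serre.Uniform
import Groth.Agent.Coherent.FormalFunctions
import Groth.Agent.Coherent.InternalHomAdj
import Mathlib.RingTheory.Nakayama

/-!
# Serre vanishing from ampleness along a closed subset containing every closed point
-/

set_option autoImplicit false
set_option backward.isDefEq.respectTransparency false

universe u

open CategoryTheory CategoryTheory.Limits AlgebraicGeometry Opposite TopologicalSpace
open Groth.Agent.Coherent Groth.Agent.PicLib Groth.Agent.AmpleLib

namespace Groth.Agent.Coherent.Serre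

variable (A : Type u) [CommRing A] [IsNoetherianRing A] {X : Scheme.{u}}
  [X.Over (Spec (CommRingCat.of A))] [IsProper (X ↘ Spec (CommRingCat.of A))]

include A in
/-- Vanishing for the twists of modules supported on `S`, given ample pullbacks to finite covers of
the closures of its points. -/
theorem exists_vanishesFrom_of_support {L : X.Modules} (hL : PicF.IsInvertible L) (S : Set X)
    (h : ∀ y : X, closure {y} ⊆ S → ∃ (Z' : Scheme.{u}) (g : Z' ⟶ X), AlgebraicGeometry.IsReduced Z' ∧
      IsFinite g ∧ Set.range g ⊆ closure {y} ∧ y ∈ Set.range g ∧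
      CohB1.IsAmple ((Scheme.Modules.pullback g).obj L))
    (F : X.Modules) (hF : Coh.IsCoh F) (hFS : CohB1.support F ⊆ S) :
    ∃ n₀, VanishesFrom L n₀ F := by
  let q := X ↘ Spec (CommRingCat.of A)
  have : IsLocallyNoetherian X := LocallyOfFiniteType.isLocallyNoetherian q
  have : CompactSpace X := QuasiCompact.compactSpace_of_compactSpace q
  have : IsNoetherian X := { }
  have : X.IsSeparated := isSeparated_of_isProper q
  obtain ⟨d, hd⟩ := Groth.Agent.S0016.result X
  have main : ∀ k p, 0 < p → d ≤ p + k → ∀ F : X.Modules, Coh.IsCoh F → CohB1.support F ⊆ S →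
      EvVanish L p F := by
    intro k
    induction k with
    | zero =>
      intro p hp hdp F hF _
      exact ⟨0, fun n _ => (subsingleton_H'_top_iff _ p).2
        (hd _ (EulerLib.isCoh_twist (isInvertible_tensorPow hL n) hF).1 p (by omega))⟩
    | succ k ih =>
      intro p hp hdp F hF hFS
      let C : Closeds X := ⟨CohB1.support F, isClosed_support F (locallyFinGen_of_isFT F hF.2)⟩
      refine mem_of_support (extClass_evVanish hL p) S
        (fun Z _ _ hZS y hy Z₀ hZ₀ hsm => ?_) C hFS F hF le_rfl
      obtain ⟨Z', g, hred, hfin, hrange, hyr, hamp⟩ := h y (hy ▸ hZS)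
      refine oneK_of_finite_push_quot (extClass_evVanish hL p) S (hy ▸ hZS) ?_ hsm g hrange hyr
        (hy ▸ hZ₀) (fun M hM => evVanish_push A q g hL hamp M hM p hp)
      intro E G π hπ hE hG hES ⟨N, hN⟩
      obtain ⟨N', hN'⟩ := ih (p + 1) p.succ_pos (by omega) (kernel π) (isCoh_kernel π hE hG.1)
        ((support_subset_of_mono (kernel.ι π)).trans hES)
      let S' : ShortComplex X.Modules := ShortComplex.mk (kernel.ι π) π (kernel.condition π)
      have hS : S'.ShortExact := { exact := ShortComplex.exact_kernel π }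
      exact ⟨max N N', fun n hn => subsingleton_H'_X₃
        (EulerLib.twistSeq_shortExact (isInvertible_tensorPow hL n) hS) p ⊤
        (hN' n (le_of_max_le_right hn)) (hN n (le_of_max_le_left hn))⟩
  choose m hm using fun p => main d (p + 1) p.succ_pos (by omega) F hF hFS
  refine ⟨(Finset.range d).sup m, fun n hn p hp => ?_⟩
  obtain ⟨p, rfl⟩ := Nat.exists_eq_add_one_of_ne_zero hp.ne'
  rcases le_or_gt d (p + 1) with hdp | hdp
  · exact (subsingleton_H'_top_iff _ _).2
      (hd _ (EulerLib.isCoh_twist (isInvertible_tensorPow hL n) hF).1 _ hdp)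
  · exact hm p n ((Finset.le_sup (Finset.mem_range.2 (show p < d by omega))).trans hn)

/-- The closed set cut out by `I`. -/
def zeroSet (I : Ideal A) : Set X := {x | ∀ a ∈ I, x ∉ X.basicOpen (baseHom A X a)}

variable {A} (I : Ideal A) (M : X.Modules)

omit [IsProper (X ↘ Spec (CommRingCat.of A))] [IsNoetherianRing A] in
theorem tensorComm_tmul' {L N : X.Modules} {U : X.Opens} (a : Γ(L, U)) (b : Γ(N, U)) :
    (tensorComm L N).hom.app U (tmul a b) = tmul b a :=
  Bilin.desc_tmul _ U a b

omit [IsProper (X ↘ Spec (CommRingCat.of A))] [IsNoetherianRing A] in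
theorem smulMod_natural' {M N : X.Modules} (g : M ⟶ N) (a : A) :
    Formal.smulMod A M a ≫ g = g ≫ Formal.smulMod A N a := by
  refine Scheme.Modules.hom_ext _ _ fun U => ?_
  ext m
  show g.app U ((Formal.smulMod A M a).app U m) = (Formal.smulMod A N a).app U (g.app U m)
  rw [smulMod_app, smulMod_app, Scheme.Modules.Hom.app_smul]

omit [IsProper (X ↘ Spec (CommRingCat.of A))] [IsNoetherianRing A] in
theorem mono_powDown {m k : ℕ} (h : m ≤ k) : Mono (powDown I M h) :=
  mono_of_mono_fac (powDown_inc I M h)

/-- `I^k M / I^(k+1) M`. -/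
noncomputable abbrev grPiece (k : ℕ) : X.Modules := cokernel (powDown I M (Nat.le_succ k))

/-- The operators of the associated graded. -/
noncomputable def grMul {a : A} (ha : a ∈ I) (k : ℕ) : grPiece I M k ⟶ grPiece I M (k + 1) :=
  cokernel.map _ _ (powMul I M ha (k + 1)) (powMul I M ha k) (powMul_down I M ha (Nat.le_succ k)).symm

omit [IsProper (X ↘ Spec (CommRingCat.of A))] [IsNoetherianRing A] in
theorem π_grMul {a : A} (ha : a ∈ I) (k : ℕ) :
    cokernel.π (powDown I M (Nat.le_succ k)) ≫ grMul I M ha k =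
      powMul I M ha k ≫ cokernel.π (powDown I M (Nat.le_succ (k + 1))) :=
  cokernel.π_desc _ _ _

omit [IsProper (X ↘ Spec (CommRingCat.of A))] [IsNoetherianRing A] in
theorem smul_grPiece_eq_zero {a : A} (ha : a ∈ I) (k : ℕ) :
    Formal.smulMod A (grPiece I M k) a = 0 := by
  rw [← cancel_epi (cokernel.π (powDown I M (Nat.le_succ k))), comp_zero]
  have h1 : Formal.smulMod A (powSub I M k) a =
      powMul I M ha k ≫ powDown I M (Nat.le_succ k) := by
    rw [← cancel_mono (powInc I M k), Category.assoc, powDown_inc, powMul_inc]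
    exact (smulMod_natural' (powInc I M k) a)
  rw [← smulMod_natural' (cokernel.π (powDown I M (Nat.le_succ k))) a, h1, Category.assoc,
    cokernel.condition, comp_zero]

variable {M} (hM : Coh.IsCoh M)
include hM

omit [IsProper (X ↘ Spec (CommRingCat.of A))] in
theorem isCoh_grPiece [IsLocallyNoetherian X] (k : ℕ) : Coh.IsCoh (grPiece I M k) :=
  isCoh_cokernel _ (isCoh_powSub I hM (k + 1)).1 (isCoh_powSub I hM k)

omit hM [IsProper (X ↘ Spec (CommRingCat.of A))] [IsNoetherianRing A] in
theorem support_grPiece [IsLocallyNoetherian X] (k : ℕ) :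
    CohB1.support (grPiece I M k) ⊆ zeroSet A (X := X) I := by
  intro x hx a ha hxa
  refine hx (subsingleton_of_forall_eq 0 fun u => ?_)
  obtain ⟨V, hV, s, rfl⟩ := (grPiece I M k).presheaf.exists_germ_eq u
  have h0 : (X.presheaf.map (homOfLE (le_top (a := V))).op (baseHom A X a) : Γ(X, V)) • s = 0 := by
    rw [← smulMod_app]
    exact congrArg (fun ψ : grPiece I M k ⟶ grPiece I M k => ψ.app V s)
      (smul_grPiece_eq_zero I M ha k)
  have h1 := congrArg ((grPiece I M k).presheaf.germ V x hV) h0
  rw [QCohLoc.germ_smul', map_zero] at h1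
  refine (IsUnit.smul_eq_zero ?_).1 h1
  rw [← ConcreteCategory.comp_apply, TopCat.Presheaf.germ_res]
  exact (Scheme.mem_basicOpen _ _ _ _).1 hxa

theorem exists_vanishesFrom_grPiece {L : X.Modules} (hL : PicF.IsInvertible L)
    (hV : ∀ F : X.Modules, Coh.IsCoh F → CohB1.support F ⊆ zeroSet A (X := X) I →
      ∃ n₀, VanishesFrom L n₀ F) :
    ∃ n₀, ∀ k, VanishesFrom L n₀ (grPiece I M k) := by
  have : IsLocallyNoetherian X :=
    LocallyOfFiniteType.isLocallyNoetherian (X ↘ Spec (CommRingCat.of A))
  have : CompactSpace X :=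
    QuasiCompact.compactSpace_of_compactSpace (X ↘ Spec (CommRingCat.of A))
  obtain ⟨r, a, ha⟩ := Submodule.fg_iff_exists_fin_generating_family.1 (IsNoetherian.noetherian I)
  have hai : ∀ i, a i ∈ I := fun i => ha.le (Submodule.subset_span ⟨i, rfl⟩)
  refine exists_uniform_vanishesFrom_of_support hL _ hV r (grPiece I M) (isCoh_grPiece I hM)
    (support_grPiece I (M := M)) (fun i k => grMul I M (hai i) k) (fun i j k => ?_) ?_
  · rw [← cancel_epi (cokernel.π (powDown I M (Nat.le_succ k))), ← Category.assoc, ← Category.assoc,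
      π_grMul, π_grMul, Category.assoc, Category.assoc, π_grMul, π_grMul, ← Category.assoc,
      ← Category.assoc, powMul_comm]
  · intro U hU
    obtain ⟨n₀, hn⟩ := secEG_powSub hM hai ha U hU
    refine ⟨n₀, fun k hk x => ?_⟩
    have := mono_powDown I M (Nat.le_succ (k + 1))
    let S : ShortComplex X.Modules :=
      ShortComplex.mk _ _ (cokernel.condition (powDown I M (Nat.le_succ (k + 1))))
    have hS : S.ShortExact := { exact := ShortComplex.exact_cokernel _ }
    have : Coh.IsQCoh S.X₁ := (isCoh_powSub I hM (k + 1 + 1)).1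
    obtain ⟨z, rfl⟩ := sections_surjective hS hU x
    obtain ⟨y, rfl⟩ := hn k hk z
    refine ⟨fun i => (cokernel.π (powDown I M (Nat.le_succ k))).app U (y i), ?_⟩
    rw [map_sum]
    exact Finset.sum_congr rfl fun i _ => congrArg
      (fun ψ : powSub I M k ⟶ grPiece I M (k + 1) => ψ.app U (y i)) (π_grMul I M (hai i) k).symm

omit hM [IsProper (X ↘ Spec (CommRingCat.of A))] [IsNoetherianRing A] in
/-- `I^k F ⊗ P → F ⊗ P → (F ⊗ P)/I^k (F ⊗ P)` is zero. -/
theorem tensorMap_powInc_π (F P : X.Modules) (k : ℕ) :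
    tensorMap (powInc I F k) (𝟙 P) ≫ Formal.modPowπ I k (CohB1.tensorMod F P) = 0 := by
  let π' := Formal.modPowπ I k (CohB1.tensorMod F P)
  let g : F ⟶ internalHom P (Formal.modPow I k (CohB1.tensorMod F P)) :=
    curry (bilinOfHom ((tensorComm P F).hom ≫ π'))
  have hev : ∀ (W : X.Opens) (z : Γ(F, W)) (b : Γ(P, W)),
      ev (secHom (g.app W z)) W le_rfl b = π'.app W (tmul z b) := fun W z b => by
    show π'.app W ((tensorComm P F).hom.app W (tmul b (resM F le_rfl z))) = _
    rw [resM_self, tensorComm_tmul']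
  have hg : powInc I F k ≫ g = 0 := by
    refine powSub_lift_condition I F g fun c hc => ?_
    refine Scheme.Modules.hom_ext _ _ fun W => ?_
    ext z
    refine locHom_ext fun V hV b => ?_
    show π'.app V ((tensorComm P F).hom.app V (tmul b (resM F hV ((Formal.smulMod A F c).app W z)))) = 0
    rw [tensorComm_tmul', ← app_resM, smulMod_app, tmul_smul_left, ← smulMod_app]
    exact congrArg (fun ψ : CohB1.tensorMod F P ⟶ _ => ψ.app V (tmul (resM F hV z) b))
      (smulMod_modPowπ I (CohB1.tensorMod F P) hc)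
  refine AmpleLib.hom_ext fun W z b => ?_
  show π'.app W ((tensorMap (powInc I F k) (𝟙 P)).app W (tmul z b)) = 0
  rw [tensorMap_tmul, ← hev]
  exact congrArg (fun ψ : powSub I F k ⟶ _ => ev (secHom (ψ.app W z)) W le_rfl b) hg

/-- Serre vanishing when the twists vanish on the closed fibre. -/
theorem exists_vanishesFrom_of_zeroSet {L : X.Modules} (hL : PicF.IsInvertible L)
    (hI : I ≤ Ideal.jacobson ⊥)
    (hV : ∀ F : X.Modules, Coh.IsCoh F → CohB1.support F ⊆ zeroSet A (X := X) I →
      ∃ n₀, VanishesFrom L n₀ F) :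
    ∃ n₀, VanishesFrom L n₀ M := by
  obtain ⟨n₀, hn₀⟩ := exists_vanishesFrom_grPiece I hM hL hV
  refine ⟨n₀, fun n hn p hp => ?_⟩
  have : IsLocallyNoetherian X :=
    LocallyOfFiniteType.isLocallyNoetherian (X ↘ Spec (CommRingCat.of A))
  let P := CohB1.tensorPow L n
  have hP : PicF.IsInvertible P := isInvertible_tensorPow hL n
  let M' := CohB1.tensorMod M P
  have hM' : Coh.IsCoh M' := EulerLib.isCoh_twist hP hM
  let φ := baseHom A X
  let J : ∀ k, CohB1.tensorMod (powSub I M k) P ⟶ M' := fun k => tensorMap (powInc I M k) (𝟙 P)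
  have hsurj : ∀ k, Function.Surjective (postA φ (J k) ⊤ p) := by
    intro k
    induction k with
    | zero =>
      intro x
      let e : M ⟶ powSub I M 0 := powElem I M (show (1 : A) ∈ I ^ 0 by
        rw [pow_zero, Ideal.one_eq_top]; trivial)
      refine ⟨postA φ (tensorMap e (𝟙 P)) ⊤ p x, (postA_comp φ _ _ p x).symm.trans ?_⟩
      refine (congrArg (fun ψ => postA φ ψ ⊤ p x) (?_ : _ = 𝟙 M')).trans (postA_id φ p x)
      refine AmpleLib.hom_ext fun W z b => ?_
      show (J 0).app W ((tensorMap e (𝟙 P)).app W (tmul z b)) = tmul z b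
      rw [tensorMap_tmul, tensorMap_tmul]
      refine congrArg (fun t => tmul t b) ?_
      have h1 : e ≫ powInc I M 0 = 𝟙 M := (powElem_inc I M _).trans (smulMod_one M)
      exact congrArg (fun ψ : M ⟶ M => ψ.app W z) h1
    | succ k ih =>
      intro x
      obtain ⟨y, rfl⟩ := ih x
      have := mono_powDown I M (Nat.le_succ k)
      let S : ShortComplex X.Modules :=
        ShortComplex.mk _ _ (cokernel.condition (powDown I M (Nat.le_succ k)))
      have hS : S.ShortExact := { exact := ShortComplex.exact_cokernel _ }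
      have hS' := EulerLib.twistSeq_shortExact hP hS
      have hz : postA φ (EulerLib.twistSeq S P).g ⊤ p y = 0 := (hn₀ k n hn p hp).elim _ _
      obtain ⟨w, hw⟩ := (exact_postA φ hS' ⊤ p y).1 hz
      refine ⟨w, ?_⟩
      rw [← hw]
      refine (congrArg (fun ψ => postA φ ψ ⊤ p w) (?_ : _ = tensorMap (powDown I M (Nat.le_succ k)) (𝟙 P) ≫ J k)).trans
        (postA_comp φ _ _ p w)
      refine AmpleLib.hom_ext fun W z b => ?_
      show (J (k + 1)).app W (tmul z b) =
        (J k).app W ((tensorMap (powDown I M (Nat.le_succ k)) (𝟙 P)).app W (tmul z b))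
      rw [tensorMap_tmul, tensorMap_tmul, tensorMap_tmul]
      exact congrArg (fun t => tmul t b) (congrArg (fun ψ : powSub I M (k + 1) ⟶ M => ψ.app W z)
        (powDown_inc I M (Nat.le_succ k)).symm)
  have htop : ∀ k, imPow I M' p k = ⊤ := fun k => by
    refine eq_top_iff.2 fun x _ => (mem_imPow_iff I M' p k x).2 ?_
    obtain ⟨z, hz⟩ := hsurj k (HHA (A := A) M' p x)
    let l : CohB1.tensorMod (powSub I M k) P ⟶ powSub I M' k :=
      kernel.lift (cokernel.π (Formal.smulFamily (I ^ k) M')) (J k) (tensorMap_powInc_π I M P k)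
    refine ⟨postA φ l ⊤ p z, (postA_comp φ l (powInc I M' k) p z).symm.trans ?_⟩
    rw [show l ≫ powInc I M' k = J k from kernel.lift_ι _ _ _]
    exact hz
  obtain ⟨c, hc⟩ := exists_imPow_succ I hM' p
  have h := hc c le_rfl
  rw [htop, htop] at h
  have hfin : Module.Finite A (Coh.HH X M' p) := finite_HH hM' p
  have hbot := Submodule.eq_bot_of_le_smul_of_le_jacobson_bot I ⊤ hfin.fg_top h.le hI
  exact (subsingleton_H'_top_iff M' p).2 (subsingleton_of_forall_eq 0 fun x =>
    (Submodule.mem_bot A).1 (hbot.le (Submodule.mem_top (x := x))))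

omit hM in
/-- Ample on a closed immersion through `y` means ample on the closure of `y`. -/
theorem isAmple_closurePiece_of_closedImmersion {Y W : Scheme.{u}} {L : Y.Modules} (i : W ⟶ Y)
    [IsClosedImmersion i] {y : Y} (hy : y ∈ Set.range i)
    (h : CohB1.IsAmple ((Scheme.Modules.pullback i).obj L)) :
    CohB1.IsAmple ((Scheme.Modules.pullback (closurePiece y).subschemeι).obj L) := by
  refine isAmple_closurePiece_of_le (I := i.ker) ?_ ?_
  · show y ∈ (i.ker.support : Set Y)
    rw [Scheme.Hom.support_ker]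
    exact subset_closure hy
  · have hfac : inv i.toImage ≫ i = i.imageι := by rw [IsIso.inv_comp_eq, Scheme.Hom.toImage_imageι]
    exact isAmple_of_iso ((Scheme.Modules.pullbackComp (inv i.toImage) i).app L ≪≫
      (Scheme.Modules.pullbackCongr hfac).app L) (isAmple_pullback_of_isAffineHom (inv i.toImage) h)

variable (A) in
omit hM in
/-- An invertible module ample on the closed fibre of a proper scheme over a Noetherian local ring
has the vanishing property. -/
theorem exists_vanishesFrom_of_closedFibre [IsLocalRing A] {L : X.Modules} (hL : PicF.IsInvertible L)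
    {W : Scheme.{u}} (i : W ⟶ X) [IsClosedImmersion i]
    (hi : ∀ x : X, (X ↘ Spec (CommRingCat.of A)) x = IsLocalRing.closedPoint A → x ∈ Set.range i)
    (hW : CohB1.IsAmple ((Scheme.Modules.pullback i).obj L)) (F : X.Modules) (hF : Coh.IsCoh F) :
    ∃ n₀, VanishesFrom L n₀ F := by
  refine exists_vanishesFrom_of_zeroSet (IsLocalRing.maximalIdeal A) hF hL
    (IsLocalRing.maximalIdeal_le_jacobson _) fun G hG hGS => ?_
  refine exists_vanishesFrom_of_support A hL _ (fun y hy => ?_) G hG hGS
  have hyi : y ∈ Set.range i := by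
    refine hi y (PrimeSpectrum.ext ?_)
    refine ((IsLocalRing.maximalIdeal.isMaximal A).eq_of_le
      ((X ↘ Spec (CommRingCat.of A)) y).isPrime.ne_top fun a ha => ?_).symm
    by_contra hnot
    refine hy (subset_closure rfl) a ha ?_
    show y ∈ X.basicOpen ((X ↘ Spec (CommRingCat.of A)).appTop
      ((Scheme.ΓSpecIso (CommRingCat.of A)).inv a))
    rw [← Scheme.preimage_basicOpen_top]
    show (X ↘ Spec (CommRingCat.of A)) y ∈ (Spec (CommRingCat.of A)).basicOpen _
    rw [basicOpen_eq_of_affine]
    exact hnot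
  exact ⟨_, (closurePiece y).subschemeι, Props12.isReduced_subscheme_vanishingIdeal _, inferInstance,
    (range_closurePiece y).le, (range_closurePiece y).ge (subset_closure rfl),
    isAmple_closurePiece_of_closedImmersion i hyi hW⟩

end Groth.Agent.Coherent.Serre
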