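import Groth.Agent.Coherent.GradedCoh
import Groth.Agent.Coherent.Serre.AmpleCover

/-!
# Uniform vanishing for twists of eventually generated systems
-/

set_option autoImplicit false

universe u

open CategoryTheory CategoryTheory.Abelian CategoryTheory.Limits AlgebraicGeometry Opposite
  TopologicalSpace
open Groth.Agent.Coherent Groth.Agent.PicLib Groth.Agent.AmpleLib

namespace Groth.Agent.Coherent.Serre

variable {X : Scheme.{u}}

/-- The positive-degree cohomology of all twists `F ⊗ L^n`, `n ≥ n₀`, vanishes. -/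
def VanishesFrom (L : X.Modules) (n₀ : ℕ) (F : X.Modules) : Prop :=
  ∀ n : ℕ, n₀ ≤ n → ∀ p : ℕ, 0 < p →
    Subsingleton (Sheaf.H' (Coh.toAb (CohB1.tensorMod F (CohB1.tensorPow L n))) p (⊤ : X.Opens))

theorem VanishesFrom.mono {L : X.Modules} {n₀ m : ℕ} (h : n₀ ≤ m) {F : X.Modules}
    (hF : VanishesFrom L n₀ F) : VanishesFrom L m F := fun n hn => hF n (h.trans hn)

theorem exists_vanishesFrom_range {L : X.Modules} {N : ℕ → X.Modules}
    (h : ∀ k, ∃ n₀, VanishesFrom L n₀ (N k)) (b : ℕ) : ∃ n₀, ∀ k ≤ b, VanishesFrom L n₀ (N k) := by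
  choose m hm using h
  exact ⟨(Finset.range (b + 1)).sup m, fun k hk =>
    (hm k).mono (Finset.le_sup (Finset.mem_range.2 (Nat.lt_succ_of_le hk)))⟩

theorem subsingleton_H'_twist_of_isZero {M : X.Modules} (hM : IsZero M) (P : X.Modules) (p : ℕ) :
    Subsingleton (Sheaf.H' (Coh.toAb (CohB1.tensorMod M P)) p (⊤ : X.Opens)) := by
  have hz : IsZero (CohB1.tensorMod M P) := by
    refine (IsZero.iff_id_eq_zero _).2 (AmpleLib.hom_ext fun U a b => ?_)
    have ha : a = 0 := congrArg (fun φ : M ⟶ M => φ.app U a) ((IsZero.iff_id_eq_zero _).1 hM)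
    rw [ha, tmul_zero_left, map_zero, map_zero]
  refine subsingleton_of_forall_eq 0 fun x => ?_
  have h := congrArg (fun ψ => postHM ψ p (⊤ : X.Opens) x) ((IsZero.iff_id_eq_zero _).1 hz)
  exact (postHM_id _ p _ x).symm.trans (h.trans (postHM_zero p _ x))

variable [IsLocallyNoetherian X] [CompactSpace X]

/-- Uniform Serre vanishing along an eventually generated system supported in `S`. -/
theorem exists_uniform_vanishesFrom_of_support {L : X.Modules} (hL : PicF.IsInvertible L) (S : Set X)
    (hV : ∀ F : X.Modules, Coh.IsCoh F → CohB1.support F ⊆ S → ∃ n₀, VanishesFrom L n₀ F) :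
    ∀ (r : ℕ) (N : ℕ → X.Modules) (_ : ∀ n, Coh.IsCoh (N n)) (_ : ∀ n, CohB1.support (N n) ⊆ S)
      (T : Fin r → ∀ n, N n ⟶ N (n + 1)) (_ : ∀ i j n, T i n ≫ T j (n + 1) = T j n ≫ T i (n + 1))
      (_ : SecEG N T), ∃ n₀, ∀ k, VanishesFrom L n₀ (N k) := by
  intro r
  induction r with
  | zero =>
    intro N hN hS T _ hT
    obtain ⟨b, hb⟩ := secEG_zero_eventually (fun n => (hN n).1) T hT
    obtain ⟨n₀, hn₀⟩ := exists_vanishesFrom_range (fun k => hV (N k) (hN k) (hS k)) b
    refine ⟨n₀, fun k => ?_⟩
    rcases le_or_gt k b with hk | hk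
    · exact hn₀ k hk
    · obtain ⟨k, rfl⟩ : ∃ j, k = j + 1 := ⟨k - 1, by omega⟩
      intro n _ p _
      exact subsingleton_H'_twist_of_isZero (hb k (by omega)) _ p
  | succ r ih =>
    intro N hN hS T hcomm hT
    let t : ∀ n, N n ⟶ N (n + 1) := fun n => T (Fin.last r) n
    -- kernels, images, cokernels of the last operator
    let K : ℕ → X.Modules := fun n => kernel (t n)
    let C : ℕ → X.Modules := fun n => cokernel (t n)
    let B : ℕ → X.Modules := fun n => Abelian.image (t n)
    let TK : Fin r → ∀ n, K n ⟶ K (n + 1) := fun i n => kernel.map (t n) (t (n + 1))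
      (T i.castSucc n) (T i.castSucc (n + 1)) (hcomm _ _ n)
    let TC : Fin r → ∀ n, C n ⟶ C (n + 1) := fun i n => cokernel.map (t n) (t (n + 1))
      (T i.castSucc n) (T i.castSucc (n + 1)) (hcomm _ _ n)
    let TB : Fin r → ∀ n, B n ⟶ B (n + 1) := fun i n =>
      kernel.map (cokernel.π (t n)) (cokernel.π (t (n + 1))) (T i.castSucc (n + 1)) (TC i n)
        (cokernel.π_desc _ _ _)
    have hTKι : ∀ i n, TK i n ≫ kernel.ι (t (n + 1)) = kernel.ι (t n) ≫ T i.castSucc n :=
      fun i n => kernel.lift_ι _ _ _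
    have hTCπ : ∀ i n, cokernel.π (t n) ≫ TC i n = T i.castSucc (n + 1) ≫ cokernel.π (t (n + 1)) :=
      fun i n => cokernel.π_desc _ _ _
    have hTBι : ∀ i n, TB i n ≫ Abelian.image.ι (t (n + 1)) =
        Abelian.image.ι (t n) ≫ T i.castSucc (n + 1) :=
      fun i n => kernel.lift_ι _ _ _
    have hTBf : ∀ i n, Abelian.factorThruImage (t n) ≫ TB i n =
        T i.castSucc n ≫ Abelian.factorThruImage (t (n + 1)) := fun i n => by
      rw [← cancel_mono (Abelian.image.ι (t (n + 1))), Category.assoc, hTBι, Category.assoc,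
        Abelian.image.fac, ← Category.assoc, Abelian.image.fac]
      exact hcomm (Fin.last r) i.castSucc n
    have hKc : ∀ n, Coh.IsCoh (K n) := fun n => isCoh_kernel (t n) (hN n) (hN (n + 1)).1
    have hCc : ∀ n, Coh.IsCoh (C n) := fun n => isCoh_cokernel (t n) (hN n).1 (hN (n + 1))
    have hcommK : ∀ i j n, TK i n ≫ TK j (n + 1) = TK j n ≫ TK i (n + 1) := fun i j n => by
      rw [← cancel_mono (kernel.ι (t (n + 1 + 1))), Category.assoc, Category.assoc, hTKι, hTKι,
        ← Category.assoc, ← Category.assoc, hTKι, hTKι, Category.assoc, Category.assoc, hcomm]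
    have hcommC : ∀ i j n, TC i n ≫ TC j (n + 1) = TC j n ≫ TC i (n + 1) := fun i j n => by
      rw [← cancel_epi (cokernel.π (t n)), ← Category.assoc, ← Category.assoc, hTCπ, hTCπ,
        Category.assoc, Category.assoc, hTCπ, hTCπ, ← Category.assoc, ← Category.assoc, hcomm]
    have hKeg : SecEG K TK := fun U hU => by
      have := IsLocallyNoetherian.component_noetherian (X := X) ⟨U, hU⟩
      let S : Fin (r + 1) → ∀ n, Γ(K n, U) →ₗ[Γ(X, U)] Γ(K (n + 1), U) :=
        Fin.lastCases (fun n => 0) (fun i n => appLin (TK i n) U)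
      have hsec := (hT U hU).sub (H := fun n => Γ(N n, U)) (K := fun n => Γ(K n, U)) (S := S)
        (fun n => ((isCoh_iff_finite_sections _).1 (hN n)).2 U hU)
        (fun i j n x => congrArg (fun ψ : N n ⟶ N (n + 1 + 1) => ψ.app U x) (hcomm j i n))
        (fun n => appLin (kernel.ι (t n)) U)
        (fun n => sections_injective (kerSeq_shortExact (t n)) U) (fun i n x => by
          induction i using Fin.lastCases with
          | last =>
            simp only [S, Fin.lastCases_last, LinearMap.zero_apply, map_zero]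
            exact (congrArg (fun ψ : K n ⟶ N (n + 1) => ψ.app U x) (kernel.condition (t n))).symm
          | cast i =>
            simp only [S, Fin.lastCases_castSucc]
            exact congrArg (fun ψ : K n ⟶ N (n + 1) => ψ.app U x) (hTKι i n))
      have := hsec.init (fun n x => by simp [S])
      simpa [S] using this
    have hCeg : SecEG C TC := fun U hU => by
      let S : Fin (r + 1) → ∀ n, Γ(C n, U) →ₗ[Γ(X, U)] Γ(C (n + 1), U) :=
        Fin.lastCases (fun n => 0) (fun i n => appLin (TC i n) U)
      have hsec := EG.quot_succ (K := fun n => Γ(C n, U)) (S := S) (hT U hU)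
        (fun n => appLin (cokernel.π (t n)) U)
        (fun n => by
          have : Coh.IsQCoh (B n) := by
            have := (hN n).1; have := (hN (n + 1)).1; exact isQCoh_image (t n)
          exact sections_surjective (imSeq_shortExact (t n)) hU)
        (fun i n x => by
          induction i using Fin.lastCases with
          | last =>
            simp only [S, Fin.lastCases_last, LinearMap.zero_apply]
            exact congrArg (fun ψ : N (n + 1) ⟶ C (n + 1) => ψ.app U x)
              (cokernel.condition (t (n + 1)))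
          | cast i =>
            simp only [S, Fin.lastCases_castSucc]
            exact congrArg (fun ψ : N (n + 1) ⟶ C (n + 1) => ψ.app U x) (hTCπ i n).symm)
      have := hsec.init (fun n x => by simp [S])
      simpa [S] using this
    obtain ⟨m₁, h₁⟩ := ih K hKc (fun n => (support_subset_of_mono (kernel.ι (t n))).trans (hS n)) TK hcommK hKeg
    obtain ⟨m₂, h₂⟩ := ih C hCc (fun n => (support_subset_of_epi (cokernel.π (t n))).trans (hS (n + 1))) TC hcommC hCeg
    obtain ⟨m₀, h₀⟩ := hV (N 0) (hN 0) (hS 0)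
    refine ⟨max m₀ (max m₁ m₂), fun k => ?_⟩
    induction k with
    | zero => exact h₀.mono (le_max_left _ _)
    | succ k hk =>
      intro n hn p hp
      have hP := isInvertible_tensorPow hL n
      have hB : Subsingleton (Sheaf.H'
          (Coh.toAb (CohB1.tensorMod (B k) (CohB1.tensorPow L n))) p (⊤ : X.Opens)) :=
        subsingleton_H'_X₃ (EulerLib.twistSeq_shortExact hP (kerSeq_shortExact (t k))) p ⊤
          (h₁ k n (by omega) (p + 1) p.succ_pos) (hk n hn p hp)
      exact subsingleton_H'_X₂ (EulerLib.twistSeq_shortExact hP (imSeq_shortExact (t k))) p ⊤ hB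
        (h₂ k n (by omega) p hp)

/-- Uniform Serre vanishing along an eventually generated system. -/
theorem exists_uniform_vanishesFrom {L : X.Modules} (hL : PicF.IsInvertible L)
    (hV : ∀ F : X.Modules, Coh.IsCoh F → ∃ n₀, VanishesFrom L n₀ F)
    (r : ℕ) (N : ℕ → X.Modules) (hN : ∀ n, Coh.IsCoh (N n))
    (T : Fin r → ∀ n, N n ⟶ N (n + 1)) (hcomm : ∀ i j n, T i n ≫ T j (n + 1) = T j n ≫ T i (n + 1))
    (hT : SecEG N T) : ∃ n₀, ∀ k, VanishesFrom L n₀ (N k) :=
  exists_uniform_vanishesFrom_of_support hL Set.univ (fun F hF _ => hV F hF) r N hN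
    (fun _ => Set.subset_univ _) T hcomm hT

/-- An ample module on a proper scheme over a Noetherian ring has the vanishing property. -/
theorem exists_vanishesFrom_of_ample (A : Type u) [CommRing A] [IsNoetherianRing A]
    [X.Over (Spec (CommRingCat.of A))] [IsProper (X ↘ Spec (CommRingCat.of A))] {L : X.Modules}
    (hL : CohB1.IsAmple L) (F : X.Modules) (hF : Coh.IsCoh F) : ∃ n₀, VanishesFrom L n₀ F := by
  obtain ⟨N, hN⟩ := exists_subsingleton_HH_twist A hL F hF
  exact ⟨N, fun n hn p hp => (subsingleton_H'_top_iff _ p).2 (hN n hn p hp)⟩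

end Groth.Agent.Coherent.Serre
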